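import Mathlib
import Groth.Prelude.Def_DTen2
import Groth.Agent.Lib.Helper5.KProj.PtKan
import Groth.Agent.Lib.Helper5.KFlat.Symm

set_option autoImplicit false
set_option linter.unusedSectionVars false
set_option linter.unusedVariables false
universe u
open CategoryTheory CategoryTheory.Limits MonoidalCategory
attribute [local instance] HasDerivedCategory.standard

namespace Groth.Agent.Lib.Helper5.DTenLib

open DTen Groth.Agent.Lib.Helper5.KProj Groth.Agent.Lib.Helper5.KFlat

section General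

variable {C : Type*} [Category C] [Abelian C] [HasDerivedCategory C]

theorem exists_Q_map_eq (P : CochainComplex C ℤ) [P.IsKProjective] (Y : CochainComplex C ℤ)
    (u : DerivedCategory.Q.obj P ⟶ DerivedCategory.Q.obj Y) :
    ∃ f : P ⟶ Y, DerivedCategory.Q.map f = u := by
  obtain ⟨g, hg⟩ := (CochainComplex.IsKProjective.Qh_map_bijective P
    ((HomotopyCategory.quotient C (ComplexShape.up ℤ)).obj Y)).2 u
  obtain ⟨f, rfl⟩ := (HomotopyCategory.quotient C (ComplexShape.up ℤ)).map_surjective g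
  exact ⟨f, hg⟩

theorem homotopy_of_Q_map_eq (P : CochainComplex C ℤ) [P.IsKProjective] {Y : CochainComplex C ℤ}
    (f g : P ⟶ Y) (h : DerivedCategory.Q.map f = DerivedCategory.Q.map g) :
    Nonempty (Homotopy f g) := by
  have h' := (CochainComplex.IsKProjective.Qh_map_bijective P
    ((HomotopyCategory.quotient C (ComplexShape.up ℤ)).obj Y)).1
    (show DerivedCategory.Qh.map ((HomotopyCategory.quotient C (ComplexShape.up ℤ)).map f) =
      DerivedCategory.Qh.map ((HomotopyCategory.quotient C (ComplexShape.up ℤ)).map g) from h)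
  exact ⟨HomotopyCategory.homotopyOfEq _ _ h'⟩

theorem Q_map_eq_of_homotopy {X Y : CochainComplex C ℤ} {f g : X ⟶ Y} (h : Homotopy f g) :
    DerivedCategory.Q.map f = DerivedCategory.Q.map g :=
  congrArg DerivedCategory.Qh.map (HomotopyCategory.eq_of_homotopy _ _ h)

end General

variable {A : Type u} [CommRing A]

/-- the tensor product of maps of complexes only depends on homotopy classes -/
theorem Q_map_tensorHom_eq {X Y X' Y' : DRing.Cx A} {f g : X ⟶ Y} {f' g' : X' ⟶ Y'}
    (h : Homotopy f g) (h' : Homotopy f' g') :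
    DerivedCategory.Q.map (f ⊗ₘ f') = DerivedCategory.Q.map (g ⊗ₘ g') := by
  have h1 : Homotopy (f ⊗ₘ f') (g ⊗ₘ f') :=
    HomologicalComplex.mapBifunctorMapHomotopy₁ h f' (curriedTensor (ModuleCat.{u} A))
      (ComplexShape.up ℤ)
  have h2 : Homotopy (g ⊗ₘ f') (g ⊗ₘ g') :=
    HomologicalComplex.mapBifunctorMapHomotopy₂ g h' (curriedTensor (ModuleCat.{u} A))
      (ComplexShape.up ℤ)
  exact Q_map_eq_of_homotopy (h1.trans h2)

theorem tensor₂_map_eq {X Y : DRing.Cx A × DRing.Cx A} (f : X ⟶ Y) :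
    (tensor₂ A).map f = DerivedCategory.Q.map (f.1 ⊗ₘ f.2) := by
  dsimp [tensor₂, tensorT]
  rw [MonoidalCategory.tensorHom_def]

variable (A)

theorem good₂ (P P' : DRing.Cx A) [P.IsKProjective] [P'.IsKProjective] :
    PtKan.Good (QQ A) (tensor₂ A) (P, P') where
  surj := by
    rintro ⟨Y, Y'⟩ ⟨u, u'⟩
    obtain ⟨f, hf⟩ := exists_Q_map_eq P Y u
    obtain ⟨f', hf'⟩ := exists_Q_map_eq P' Y' u'
    exact ⟨(f, f'), Prod.ext hf hf'⟩
  inv := by
    rintro ⟨Y, Y'⟩ ⟨f, f'⟩ ⟨g, g'⟩ h
    obtain ⟨h1⟩ := homotopy_of_Q_map_eq P f g (congrArg Prod.fst h)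
    obtain ⟨h2⟩ := homotopy_of_Q_map_eq P' f' g' (congrArg Prod.snd h)
    rw [tensor₂_map_eq, tensor₂_map_eq]
    exact Q_map_tensorHom_eq h1 h2

theorem enough₂ (X : DRing.Cx A × DRing.Cx A) :
    ∃ (P : DRing.Cx A × DRing.Cx A) (f : P ⟶ X), qis₂ A f ∧ PtKan.Good (QQ A) (tensor₂ A) P :=
  ⟨(res X.1, res X.2), (resMap X.1, resMap X.2),
    ⟨(HomologicalComplex.mem_quasiIso_iff _).2 inferInstance,
      (HomologicalComplex.mem_quasiIso_iff _).2 inferInstance⟩, good₂ A _ _⟩

theorem isIso_ε_of_isKProjective [HasLTen A] (P P' : DRing.Cx A) [P.IsKProjective]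
    [P'.IsKProjective] : IsIso ((ε A).app (P, P')) :=
  PtKan.isIso_counit_app (QQ A) (tensor₂ A) (qis₂ A) (enough₂ A) (LTen₂ A) (ε A) (good₂ A P P')

theorem isIso_ε_of_isKFlat [HasLTen A] (K L : DRing.Cx A)
    (h : DRing.IsKFlat A K ∨ DRing.IsKFlat A L) : IsIso ((ε A).app (K, L)) := by
  have hnat := (ε A).naturality (X := (res K, res L)) (Y := (K, L)) (resMap K, resMap L)
  have : IsIso ((ε A).app (res K, res L)) := isIso_ε_of_isKProjective A _ _
  have : IsIso ((tensor₂ A).map ((resMap K, resMap L) : (res K, res L) ⟶ (K, L))) := by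
    rw [tensor₂_map_eq, DerivedCategory.isIso_Q_map_iff_quasiIso, MonoidalCategory.tensorHom_def]
    dsimp
    rcases h with h | h
    · have := quasiIso_whiskerRight (isKFlat_res L) (resMap K) inferInstance
      have := quasiIso_whiskerLeft h (resMap L) inferInstance
      infer_instance
    · rw [← MonoidalCategory.whisker_exchange]
      have := quasiIso_whiskerLeft (isKFlat_res K) (resMap L) inferInstance
      have := quasiIso_whiskerRight h (resMap K) inferInstance
      infer_instance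
  have : IsIso ((QQ A ⋙ LTen₂ A).map ((resMap K, resMap L) : (res K, res L) ⟶ (K, L))) := by
    dsimp
    have h1 : IsIso (DerivedCategory.Q.map (resMap K)) := inferInstance
    have h2 : IsIso (DerivedCategory.Q.map (resMap L)) := inferInstance
    have : IsIso ((QQ A).map ((resMap K, resMap L) : (res K, res L) ⟶ (K, L))) := by
      rw [isIso_prod_iff]
      exact ⟨h1, h2⟩
    exact Functor.map_isIso (LTen₂ A) ((QQ A).map ((resMap K, resMap L) : (res K, res L) ⟶ (K, L)))
  exact IsIso.of_isIso_fac_left hnat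

end Groth.Agent.Lib.Helper5.DTenLib
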