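import Mathlib
import Groth.Agent.Lib.Helper5.KFlat.Symm

set_option autoImplicit false
set_option linter.unusedSectionVars false
set_option linter.unusedVariables false
universe u
open CategoryTheory CategoryTheory.Limits MonoidalCategory TensorProduct

namespace Groth.Agent.Lib.Helper5.DTenLib

variable {R A : Type u} [CommRing R] [CommRing A] (φ : R →+* A)

/-- `A` as an `R`-module -/
noncomputable abbrev AR : ModuleCat.{u} R :=
  (ModuleCat.restrictScalars.{u} φ).obj (ModuleCat.of A A)

theorem comm_smul (M : ModuleCat.{u} R) (r : R) (x : (AR φ) ⊗[R] M) :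
    TensorProduct.comm R (AR φ) M
        ((φ r • (show (ModuleCat.extendScalars.{u, u, u} φ).obj M from x) :
          (ModuleCat.extendScalars.{u, u, u} φ).obj M)) =
      r • TensorProduct.comm R (AR φ) M x := by
  induction x using TensorProduct.induction_on with
  | zero =>
    show TensorProduct.comm R (AR φ) M
      (φ r • (0 : (ModuleCat.extendScalars.{u, u, u} φ).obj M)) = _
    rw [smul_zero]
    erw [map_zero]
    rw [smul_zero]
  | tmul a m =>
    show TensorProduct.comm R (AR φ) M (((φ r * (show A from a) : A) : AR φ) ⊗ₜ[R] m) =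
      r • TensorProduct.comm R (AR φ) M (a ⊗ₜ[R] m)
    rw [TensorProduct.comm_tmul, TensorProduct.comm_tmul, TensorProduct.smul_tmul',
      TensorProduct.smul_tmul]
    rfl
  | add x y hx hy =>
    show TensorProduct.comm R (AR φ) M
      (φ r • ((show (ModuleCat.extendScalars.{u, u, u} φ).obj M from x) +
        (show (ModuleCat.extendScalars.{u, u, u} φ).obj M from y))) = _
    rw [smul_add]
    erw [map_add, map_add]
    rw [smul_add]
    congr 1

/-- the underlying `R`-linear equivalence `(A ⊗_R M)|_R ≃ M ⊗_R A` -/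
noncomputable def extResLin (M : ModuleCat.{u} R) :
    ((ModuleCat.extendScalars.{u, u, u} φ ⋙ ModuleCat.restrictScalars.{u} φ).obj M) ≃ₗ[R]
      (M ⊗[R] AR φ) :=
  { toFun := fun x => TensorProduct.comm R (AR φ) M x
    invFun := fun y => (TensorProduct.comm R (AR φ) M).symm y
    left_inv := fun x => (TensorProduct.comm R (AR φ) M).symm_apply_apply x
    right_inv := fun y => (TensorProduct.comm R (AR φ) M).apply_symm_apply y
    map_add' := fun x y => map_add (TensorProduct.comm R (AR φ) M) x y
    map_smul' := fun r x => comm_smul φ M r x }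

theorem extResLin_tmul (M : ModuleCat.{u} R) (a : AR φ) (m : M) :
    extResLin φ M (a ⊗ₜ[R] m) = m ⊗ₜ[R] a := rfl

/-- `(A ⊗_R -)|_R ≅ - ⊗_R A` as functors of `R`-modules -/
noncomputable def extResIso :
    ModuleCat.extendScalars.{u, u, u} φ ⋙ ModuleCat.restrictScalars.{u} φ ≅ tensorRight (AR φ) :=
  NatIso.ofComponents (fun M => (extResLin φ M).toModuleIso) (fun {M M'} g => by
    apply ModuleCat.hom_ext
    apply LinearMap.ext
    intro x
    induction x using TensorProduct.induction_on with
    | zero =>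
      erw [map_zero]
    | tmul a m => rfl
    | add x y hx hy =>
      erw [map_add, map_add, hx, hy])

open Groth.Agent.Lib.Helper5.Misc.KFlatGen Groth.Agent.Lib.Helper5.KFlat
open Groth.Agent.Helper5.FlatAcyc

section Conc

variable (F Q : DRing.Cx R) (hz : ∀ n, n ≠ 0 → IsZero (Q.X n)) {M : ModuleCat.{u} R}
  (e : Q.X 0 ≅ M)

/-- tensoring with a complex concentrated in degree zero is the termwise tensor product -/
noncomputable def tensorConcIso : (TM M).obj F ≅ F ⊗ Q :=
  HomologicalComplex.Hom.isoOfComponents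
    (fun n => (whiskerLeftIso (F.X n) e.symm) ≪≫
      @asIso _ _ _ _ (HomologicalComplex.ιMapBifunctor F Q (T R) (ComplexShape.up ℤ) n 0 n (add_zero n))
        (isIso_ι_concentrated (T R) F Q 0 hz n n (add_zero n)))
    (fun i j hij => by
      obtain rfl : i + 1 = j := hij
      have h := ι_d_concentrated' (T R) F Q 0 hz i (i + 1) i (i + 1) rfl rfl (add_zero i)
        (add_zero (i + 1))
      show (F.X i ◁ e.inv ≫ HomologicalComplex.ιMapBifunctor F Q (T R) (ComplexShape.up ℤ) i 0 i
          (add_zero i)) ≫ (HomologicalComplex.mapBifunctor F Q (T R) (ComplexShape.up ℤ)).d i (i + 1) =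
        (F.d i (i + 1) ▷ M) ≫ (F.X (i + 1) ◁ e.inv ≫
          HomologicalComplex.ιMapBifunctor F Q (T R) (ComplexShape.up ℤ) (i + 1) 0 (i + 1)
            (add_zero (i + 1)))
      rw [Category.assoc, h, ← Category.assoc, ← Category.assoc]
      congr 1
      exact MonoidalCategory.whisker_exchange _ _)

theorem tensorConcIso_naturality {F F' : DRing.Cx R} (f : F ⟶ F') :
    (TM M).map f ≫ (tensorConcIso F' Q hz e).hom = (tensorConcIso F Q hz e).hom ≫ (f ▷ Q) := by
  refine HomologicalComplex.hom_ext _ _ (fun n => ?_)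
  have h := HomologicalComplex.ι_mapBifunctorMap f (𝟙 Q) (T R) (ComplexShape.up ℤ) n 0 n (add_zero n)
  rw [HomologicalComplex.id_f, CategoryTheory.Functor.map_id, Category.id_comp] at h
  show (f.f n ▷ M) ≫ (F'.X n ◁ e.inv ≫
      HomologicalComplex.ιMapBifunctor F' Q (T R) (ComplexShape.up ℤ) n 0 n (add_zero n)) =
    (F.X n ◁ e.inv ≫ HomologicalComplex.ιMapBifunctor F Q (T R) (ComplexShape.up ℤ) n 0 n
      (add_zero n)) ≫ (HomologicalComplex.mapBifunctorMap f (𝟙 Q) (T R) (ComplexShape.up ℤ)).f n
  rw [Category.assoc, h, ← Category.assoc, ← Category.assoc]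
  congr 1
  exact (MonoidalCategory.whisker_exchange _ _).symm

end Conc

theorem quasiIso_of_natIso {C₁ C₂ : Type*} [Category C₁] [Category C₂] [Abelian C₂]
    {F₁ F₂ : C₁ ⥤ CochainComplex C₂ ℤ} (e : F₁ ≅ F₂) {X Y : C₁} (f : X ⟶ Y)
    (h : QuasiIso (F₂.map f)) : QuasiIso (F₁.map f) := by
  have : F₁.map f = e.hom.app X ≫ F₂.map f ≫ e.inv.app Y := by
    rw [← Category.assoc, ← e.hom.naturality, Category.assoc, Iso.hom_inv_id_app, Category.comp_id]
  rw [this]
  infer_instance

/-- extension of scalars preserves quasi-isomorphisms between K-flat complexes -/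
theorem quasiIso_extCx_map {P K : DRing.Cx R} (p : P ⟶ K) (hP : DRing.IsKFlat R P)
    (hK : DRing.IsKFlat R K) (hp : QuasiIso p) :
    QuasiIso (((ModuleCat.extendScalars.{u, u, u} φ).mapHomologicalComplex (ComplexShape.up ℤ)).map p) := by
  let Q : DRing.Cx R := (HomologicalComplex.single (ModuleCat.{u} R) (ComplexShape.up ℤ) 0).obj (AR φ)
  have hz : ∀ n, n ≠ 0 → IsZero (Q.X n) := fun n hn =>
    HomologicalComplex.isZero_single_obj_X (ComplexShape.up ℤ) 0 (AR φ) n hn
  let e : Q.X 0 ≅ AR φ := HomologicalComplex.singleObjXSelf (ComplexShape.up ℤ) 0 (AR φ)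
  have h1 : QuasiIso (p ▷ Q) := quasiIso_whiskerRight_of_isKFlat p hP hK hp Q
  have h2 : QuasiIso ((TM (AR φ)).map p) := by
    have := tensorConcIso_naturality Q hz e p
    have h' : (TM (AR φ)).map p =
        (tensorConcIso P Q hz e).hom ≫ (p ▷ Q) ≫ (tensorConcIso K Q hz e).inv := by
      rw [← Category.assoc, ← this, Category.assoc, Iso.hom_inv_id, Category.comp_id]
    rw [h']
    infer_instance
  have h3 : QuasiIso (((ModuleCat.extendScalars.{u, u, u} φ ⋙
      ModuleCat.restrictScalars.{u} φ).mapHomologicalComplex (ComplexShape.up ℤ)).map p) :=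
    quasiIso_of_natIso (NatIso.mapHomologicalComplex (extResIso φ) (ComplexShape.up ℤ)) p h2
  have h4 : QuasiIso (((ModuleCat.restrictScalars.{u} φ).mapHomologicalComplex (ComplexShape.up ℤ)).map
      (((ModuleCat.extendScalars.{u, u, u} φ).mapHomologicalComplex (ComplexShape.up ℤ)).map p)) := h3
  exact (HomologicalComplex.quasiIso_map_iff_of_preservesHomology _
    (ModuleCat.restrictScalars.{u} φ)).1 h4

end Groth.Agent.Lib.Helper5.DTenLib
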