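import Mathlib
import Groth.Prelude.Def_DTen4
import Groth.Agent.Lib.Helper5.DTenLib.ExtQis
import Groth.Agent.Lib.Helper5.DTenLib.Basic
import Groth.Agent.Lib.Helper5.KProj.DerAdj
import Groth.Agent.Lib.Helper5.KProj.LBC

set_option autoImplicit false
set_option linter.unusedSectionVars false
set_option linter.unusedVariables false
universe u
open CategoryTheory CategoryTheory.Limits MonoidalCategory
attribute [local instance] HasDerivedCategory.standard

namespace Groth.Agent.Lib.Helper5.DTenLib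

open DTen Groth.Agent.Lib.Helper5.KProj Groth.Agent.Lib.Helper5.KFlat

variable {R A : Type u} [CommRing R] [CommRing A] (φ : R →+* A)

instance hasLBaseChange : DRing.HasLBaseChange φ :=
  have := hasPointwiseLeftDerivedFunctor (DRing.baseChangeKh φ) (hasKProjRes_moduleCat R)
  inferInstance

/-- the derived adjunction -/
noncomputable def myAdj : DRing.LBaseChange φ ⊣ DRing.restrictD φ :=
  derivedAdj (ModuleCat.extendRestrictScalarsAdj.{u, u, u} φ) (hasKProjRes_moduleCat R)

/-- comparison of the chosen left adjoint with the derived functor -/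
noncomputable def uIso [HasLBase φ] : LBase φ ≅ DRing.LBaseChange φ :=
  (baseAdj φ).leftAdjointUniq (myAdj φ)

theorem baseCmp_eq [HasLBase φ] (K : DRing.Cx R) :
    (baseCmp φ).app K = (uIso φ).hom.app (DerivedCategory.Q.obj K) ≫ (lbcCmp φ).app K := by
  apply ((baseAdj φ).homEquiv _ _).injective
  rw [Adjunction.homEquiv_unit, Adjunction.homEquiv_unit, baseCmp_fac, Functor.map_comp,
    ← Category.assoc]
  erw [Adjunction.unit_leftAdjointUniq_hom_app (baseAdj φ) (myAdj φ)]
  have h := derivedAdj_unit_cmp (ModuleCat.extendRestrictScalarsAdj.{u, u, u} φ)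
    (hasKProjRes_moduleCat R) K
  exact h.symm

theorem isIso_baseCmp_of_isKProjective [HasLBase φ] (P : DRing.Cx R) [P.IsKProjective] :
    IsIso ((baseCmp φ).app P) := by
  rw [baseCmp_eq]
  infer_instance

theorem isIso_baseCmp_of_isKFlat [HasLBase φ] (K : DRing.Cx R) (hK : DRing.IsKFlat R K) :
    IsIso ((baseCmp φ).app K) := by
  have hnat := (baseCmp φ).naturality (resMap K)
  have i1 : IsIso ((DerivedCategory.Q ⋙ LBase φ).map (resMap K)) := by
    dsimp
    infer_instance
  have i2 : IsIso ((baseCmp φ).app (res K)) := isIso_baseCmp_of_isKProjective φ (res K)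
  have i3 : IsIso ((extCx φ ⋙ DerivedCategory.Q).map (resMap K)) := by
    dsimp
    rw [DerivedCategory.isIso_Q_map_iff_quasiIso]
    exact quasiIso_extCx_map φ (resMap K) (isKFlat_res K) hK inferInstance
  have i4 : IsIso ((baseCmp φ).app (res K) ≫ (extCx φ ⋙ DerivedCategory.Q).map (resMap K)) :=
    IsIso.comp_isIso' i2 i3
  exact IsIso.of_isIso_fac_left hnat

/-! ### the mixed tensor product -/

theorem mix₂_map_eq {X Y : DRing.Cx R × DRing.Cx A} (f : X ⟶ Y) :
    (mix₂ φ).map f = DerivedCategory.Q.map ((extCx φ).map f.1 ⊗ₘ f.2) := by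
  dsimp [mix₂, mixT, tensorT]
  rw [MonoidalCategory.tensorHom_def]

theorem goodMix (P : DRing.Cx R) (M : DRing.Cx A) [P.IsKProjective] [M.IsKProjective] :
    PtKan.Good (QMix R A) (mix₂ φ) (P, M) where
  surj := by
    rintro ⟨Y, Y'⟩ ⟨u, u'⟩
    obtain ⟨f, hf⟩ := exists_Q_map_eq P Y u
    obtain ⟨f', hf'⟩ := exists_Q_map_eq M Y' u'
    exact ⟨(f, f'), Prod.ext hf hf'⟩
  inv := by
    rintro ⟨Y, Y'⟩ ⟨f, f'⟩ ⟨g, g'⟩ h
    obtain ⟨h1⟩ := homotopy_of_Q_map_eq P f g (congrArg Prod.fst h)
    obtain ⟨h2⟩ := homotopy_of_Q_map_eq M f' g' (congrArg Prod.snd h)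
    rw [mix₂_map_eq, mix₂_map_eq]
    exact Q_map_tensorHom_eq ((ModuleCat.extendScalars.{u, u, u} φ).mapHomotopy h1) h2

theorem enoughMix (X : DRing.Cx R × DRing.Cx A) :
    ∃ (P : DRing.Cx R × DRing.Cx A) (f : P ⟶ X),
      qisMix R A f ∧ PtKan.Good (QMix R A) (mix₂ φ) P :=
  ⟨(res X.1, res X.2), (resMap X.1, resMap X.2),
    ⟨(HomologicalComplex.mem_quasiIso_iff _).2 inferInstance,
      (HomologicalComplex.mem_quasiIso_iff _).2 inferInstance⟩, goodMix φ _ _⟩

theorem isIso_εMix_of_isKProjective [HasLTenMix φ] (P : DRing.Cx R) (M : DRing.Cx A)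
    [P.IsKProjective] [M.IsKProjective] : IsIso ((εMix φ).app (P, M)) :=
  PtKan.isIso_counit_app (QMix R A) (mix₂ φ) (qisMix R A) (enoughMix φ) (LTenMix φ) (εMix φ)
    (goodMix φ P M)

theorem isIso_split_res [HasLTen A] [HasLBase φ] [HasLTenMix φ] (X : DRing.Cx R) (Y : DRing.Cx A) :
    IsIso ((split φ).app ((QMix R A).obj (res X, res Y))) := by
  have hfac := split_fac φ (res X, res Y)
  have i1 : IsIso ((εMix φ).app (res X, res Y)) := isIso_εMix_of_isKProjective φ _ _
  have i2 : IsIso ((splitβ φ).app (res X, res Y)) := by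
    dsimp [splitβ]
    have j1 : IsIso ((baseCmp φ).app (res X)) := isIso_baseCmp_of_isKProjective φ (res X)
    have j2 : IsIso ((LTen₂ A).map (Prod.mkHom ((baseCmp φ).app (res X))
        (𝟙 (DerivedCategory.Q.obj (res Y))))) := by
      have : IsIso (Prod.mkHom ((baseCmp φ).app (res X)) (𝟙 (DerivedCategory.Q.obj (res Y)))) := by
        rw [isIso_prod_iff]
        exact ⟨j1, by dsimp; infer_instance⟩
      infer_instance
    have j3 : IsIso ((ε A).app ((extCx φ).obj (res X), res Y)) :=
      isIso_ε_of_isKFlat A _ _ (Or.inr (isKFlat_res Y))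
    exact IsIso.comp_isIso' j2 j3
  rw [← hfac] at i2
  exact IsIso.of_isIso_comp_right _ ((εMix φ).app (res X, res Y))

/-- every pair of objects is isomorphic to the image of a pair of resolutions -/
noncomputable def pairIso (E : Dual.D R) (N : Dual.D A) :
    (E, N) ≅ (QMix R A).obj (res (DerivedCategory.Q.objPreimage E),
      res (DerivedCategory.Q.objPreimage N)) :=
  Iso.prod ((DerivedCategory.Q.objObjPreimageIso E).symm ≪≫
      (asIso (DerivedCategory.Q.map (resMap (DerivedCategory.Q.objPreimage E)))).symm)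
    ((DerivedCategory.Q.objObjPreimageIso N).symm ≪≫
      (asIso (DerivedCategory.Q.map (resMap (DerivedCategory.Q.objPreimage N)))).symm)

theorem isIso_split_app [HasLTen A] [HasLBase φ] [HasLTenMix φ] (E : Dual.D R) (N : Dual.D A) :
    IsIso ((split φ).app (E, N)) := by
  rw [NatTrans.isIso_app_iff_of_iso (split φ) (pairIso E N)]
  exact isIso_split_res φ _ _

end Groth.Agent.Lib.Helper5.DTenLib
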