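import Mathlib
import Groth.Agent.Lib.Helper5.DTenLib.Thick
import Groth.Agent.Lib.Helper5.DTenLib.Basic
import Groth.Agent.Lib.Helper5.KSix.ThickTensor
import Groth.Prelude.Def_DTen3

set_option autoImplicit false
set_option linter.unusedSectionVars false
set_option linter.unusedVariables false
set_option linter.style.haveILetI false
universe u
open CategoryTheory CategoryTheory.Limits MonoidalCategory Pretriangulated
attribute [local instance] HasDerivedCategory.standard

namespace Groth.Agent.Lib.Helper5.DTenLib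

open DTen Groth.Agent.Lib.Helper5.KProj Groth.Agent.Lib.Helper5.KFlat
  Groth.Agent.Lib.Helper5.DTenThick

section General

variable {C : Type*} [Category C] [Abelian C] [HasDerivedCategory C]

/-- the third map of the mapping cone triangle -/
noncomputable abbrev δc {X Y : CochainComplex C ℤ} (φ : X ⟶ Y) :
    CochainComplex.mappingCone φ ⟶ X⟦(1 : ℤ)⟧ :=
  (CochainComplex.mappingCone.triangle φ).mor₃

open CochainComplex in
/-- every distinguished triangle of the derived category is, on its first two maps, the image of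
the rotated mapping cone short exact sequence -/
theorem exists_cone_of_distTriang (T : Triangle (DerivedCategory C))
    (hT : T ∈ distTriang (DerivedCategory C)) :
    ∃ (X Y : CochainComplex C ℤ) (φ : X ⟶ Y) (e₁ : T.obj₁ ≅ DerivedCategory.Q.obj Y)
      (e₂ : T.obj₂ ≅ DerivedCategory.Q.obj (mappingCone φ))
      (e₃ : T.obj₃ ≅ DerivedCategory.Q.obj (X⟦(1 : ℤ)⟧)),
      T.mor₁ ≫ e₂.hom = e₁.hom ≫ DerivedCategory.Q.map (mappingCone.inr φ) ∧
      T.mor₂ ≫ e₃.hom = e₂.hom ≫ DerivedCategory.Q.map (δc φ) := by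
  obtain ⟨X, Y, φ, ⟨e'⟩⟩ := (DerivedCategory.mem_distTriang_iff _).1 (inv_rot_of_distTriang _ hT)
  let ψ : T ≅ (DerivedCategory.Q.mapTriangle.obj (mappingCone.triangle φ)).rotate :=
    ((triangleRotation (DerivedCategory C)).counitIso.app T).symm ≪≫ (rotate _).mapIso e'
  refine ⟨X, Y, φ, Triangle.π₁.mapIso ψ, Triangle.π₂.mapIso ψ,
    Triangle.π₃.mapIso ψ ≪≫ ((DerivedCategory.Q.commShiftIso (1 : ℤ)).app X).symm, ?_, ?_⟩
  · exact ψ.hom.comm₁
  · have := ψ.hom.comm₂
    change T.mor₂ ≫ ψ.hom.hom₃ ≫ (DerivedCategory.Q.commShiftIso (1 : ℤ)).inv.app X =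
      ψ.hom.hom₂ ≫ DerivedCategory.Q.map (δc φ)
    rw [reassoc_of% this]
    have hm : (DerivedCategory.Q.mapTriangle.obj (mappingCone.triangle φ)).rotate.mor₂ =
        DerivedCategory.Q.map (δc φ) ≫
          (DerivedCategory.Q.commShiftIso (1 : ℤ)).hom.app X := rfl
    congr 1
    exact (Category.assoc _ _ _).trans
      ((congrArg (fun t => DerivedCategory.Q.map (δc φ) ≫ t)
        ((DerivedCategory.Q.commShiftIso (1 : ℤ)).hom_inv_id_app X)).trans (Category.comp_id _))

end General

section Tensor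

variable (A : Type u) [CommRing A] [HasLTen A]

/-- the counit natural isomorphism for a K-flat complex on the left -/
noncomputable def εLeftIso (F : DRing.Cx A) (hF : DRing.IsKFlat A F) :
    DerivedCategory.Q ⋙ (LTen A).obj (DerivedCategory.Q.obj F) ≅
      tensorLeft F ⋙ DerivedCategory.Q :=
  haveI : ∀ X, IsIso ((εLeft A F).app X) := fun X => isIso_ε_of_isKFlat A F X (Or.inl hF)
  haveI : IsIso (εLeft A F) := NatIso.isIso_of_isIso_app _
  asIso (εLeft A F)

theorem coyExact_LTen_obj_Q (F : DRing.Cx A) (hF : DRing.IsKFlat A F) :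
    CoyExact ((LTen A).obj (DerivedCategory.Q.obj F)) := by
  intro T hT
  obtain ⟨X, Y, φ, e₁, e₂, e₃, c₁, c₂⟩ := exists_cone_of_distTriang T hT
  obtain ⟨z, hS⟩ := shortExact_tensor_cone φ F
  let G := (LTen A).obj (DerivedCategory.Q.obj F)
  have n₁ : G.map (DerivedCategory.Q.map (CochainComplex.mappingCone.inr φ)) ≫
      (εLeftIso A F hF).hom.app (CochainComplex.mappingCone φ) =
      (εLeftIso A F hF).hom.app Y ≫
        DerivedCategory.Q.map (F ◁ CochainComplex.mappingCone.inr φ) :=
    (εLeftIso A F hF).hom.naturality (CochainComplex.mappingCone.inr φ)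
  have n₂ : G.map (DerivedCategory.Q.map (δc φ)) ≫
      (εLeftIso A F hF).hom.app (X⟦(1 : ℤ)⟧) =
      (εLeftIso A F hF).hom.app (CochainComplex.mappingCone φ) ≫
        DerivedCategory.Q.map (F ◁ δc φ) :=
    (εLeftIso A F hF).hom.naturality (δc φ)
  refine exactAt_of_iso_distTriang G T.mor₁ T.mor₂ _
    (DerivedCategory.triangleOfSES_distinguished hS)
    (G.mapIso e₁ ≪≫ (εLeftIso A F hF).app Y)
    (G.mapIso e₂ ≪≫ (εLeftIso A F hF).app _)
    (G.mapIso e₃ ≪≫ (εLeftIso A F hF).app _) ?_ ?_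
  · exact calc
      G.map T.mor₁ ≫ G.map e₂.hom ≫ (εLeftIso A F hF).hom.app _
        = G.map (T.mor₁ ≫ e₂.hom) ≫ (εLeftIso A F hF).hom.app _ := by
          rw [G.map_comp, Category.assoc]
      _ = G.map (e₁.hom ≫ DerivedCategory.Q.map (CochainComplex.mappingCone.inr φ)) ≫
            (εLeftIso A F hF).hom.app _ := by rw [c₁]
      _ = G.map e₁.hom ≫ G.map (DerivedCategory.Q.map (CochainComplex.mappingCone.inr φ)) ≫
            (εLeftIso A F hF).hom.app _ := by rw [G.map_comp, Category.assoc]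
      _ = G.map e₁.hom ≫ (εLeftIso A F hF).hom.app Y ≫
            DerivedCategory.Q.map (F ◁ CochainComplex.mappingCone.inr φ) := by rw [n₁]
      _ = (G.map e₁.hom ≫ (εLeftIso A F hF).hom.app Y) ≫
            DerivedCategory.Q.map (F ◁ CochainComplex.mappingCone.inr φ) := by
          rw [Category.assoc]
  · exact calc
      G.map T.mor₂ ≫ G.map e₃.hom ≫ (εLeftIso A F hF).hom.app _
        = G.map (T.mor₂ ≫ e₃.hom) ≫ (εLeftIso A F hF).hom.app _ := by
          rw [G.map_comp, Category.assoc]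
      _ = G.map (e₂.hom ≫ DerivedCategory.Q.map (δc φ)) ≫
            (εLeftIso A F hF).hom.app _ := by rw [c₂]
      _ = G.map e₂.hom ≫ G.map (DerivedCategory.Q.map (δc φ)) ≫
            (εLeftIso A F hF).hom.app _ := by rw [G.map_comp, Category.assoc]
      _ = G.map e₂.hom ≫ (εLeftIso A F hF).hom.app _ ≫
            DerivedCategory.Q.map (F ◁ δc φ) := by rw [n₂]
      _ = (G.map e₂.hom ≫ (εLeftIso A F hF).hom.app _) ≫
            DerivedCategory.Q.map (F ◁ δc φ) := by
          rw [Category.assoc]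

theorem coyExact_LTen_obj (L : Dual.D A) : CoyExact ((LTen A).obj L) := by
  let L₀ := DerivedCategory.Q.objPreimage L
  have eL : DerivedCategory.Q.obj (res L₀) ≅ L :=
    asIso (DerivedCategory.Q.map (resMap L₀)) ≪≫ DerivedCategory.Q.objObjPreimageIso L
  exact (coyExact_LTen_obj_Q A (res L₀) (isKFlat_res L₀)).of_iso ((LTen A).mapIso eL)

/-- the symmetry as a natural isomorphism `L ⊗ - ≅ - ⊗ L` -/
noncomputable def symmIso [HasLTen₃ A] [IsSymMonoidal A] (L : Dual.D A) :
    (LTen A).obj L ≅ tensorRightD A L :=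
  NatIso.ofComponents (fun K => (asIso (symm A)).app (K, L)) (by
    intro K K' f
    have := (symm A).naturality (Prod.mkHom f (𝟙 L))
    dsimp at this ⊢
    exact this)

theorem coyExact_tensorRightD [HasLTen₃ A] [IsSymMonoidal A] (L : Dual.D A) :
    CoyExact (tensorRightD A L) :=
  (coyExact_LTen_obj A L).of_iso (symmIso A L)

omit [HasLTen A] in
open Groth.Agent.Lib.Helper5.KSixThick in
/-- induction principle for perfect complexes -/
theorem perfect_induction (Pr : ObjectProperty (Dual.D A)) [Pr.IsTriangulated]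
    [Pr.IsClosedUnderIsomorphisms] (hsum : ∀ X Y : Dual.D A, Pr (X ⊞ Y) → Pr X)
    (hunit : Pr (DTen.unit A)) (K : Dual.D A) (hK : DRing.IsPerfect A K) : Pr K := by
  obtain ⟨E, a, b, hE, hfp, ⟨e⟩⟩ := hK
  have h1 : Cls (𝟙_ (DRing.Cx A)) Pr E := cls_bounded E a b hE (fun i => by
    haveI := (hfp i).1
    haveI := (hfp i).2
    exact clsM_of_finite_projective hsum hunit (E.X i))
  exact Pr.prop_of_iso (DerivedCategory.Q.mapIso (λ_ E) ≪≫ e) h1

end Tensor

end Groth.Agent.Lib.Helper5.DTenLib
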