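import Mathlib
import Groth.Agent.Lib.Helper5.DTenLib.TensorExact

set_option autoImplicit false
set_option linter.unusedSectionVars false
set_option linter.unusedVariables false
set_option linter.style.haveILetI false
universe u
open CategoryTheory CategoryTheory.Limits MonoidalCategory Pretriangulated
attribute [local instance] HasDerivedCategory.standard

namespace Groth.Agent.Lib.Helper5.DTenLib

open DTen Groth.Agent.Lib.Helper5.KProj Groth.Agent.Lib.Helper5.KFlat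
  Groth.Agent.Lib.Helper5.DTenThick

variable {A : Type u} [CommRing A]

open CochainComplex HomologicalComplex in
set_option backward.defeqAttrib.useBackward true in
set_option backward.isDefEq.respectTransparency false in
/-- naturality of `mapBifunctorShift₁Iso` in the second variable -/
theorem mapBifunctorShift₁Iso_hom_naturality₂ (K₁ : DRing.Cx A) {K₂ L₂ : DRing.Cx A}
    (f₂ : K₂ ⟶ L₂) (x : ℤ) :
    mapBifunctorMap (𝟙 (K₁⟦x⟧)) f₂ (curriedTensor (ModuleCat.{u} A)) (.up ℤ) ≫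
        (mapBifunctorShift₁Iso K₁ L₂ (curriedTensor (ModuleCat.{u} A)) x).hom =
      (mapBifunctorShift₁Iso K₁ K₂ (curriedTensor (ModuleCat.{u} A)) x).hom ≫
        (mapBifunctorMap (𝟙 K₁) f₂ (curriedTensor (ModuleCat.{u} A)) (.up ℤ))⟦x⟧' := by
  refine HomologicalComplex.hom_ext _ _ (fun n =>
    HomologicalComplex.mapBifunctor.hom_ext (fun p q h => ?_))
  simp [ι_mapBifunctorShift₁Iso_hom_f _ _ _ _ _ _ _ _ (p + x) (n + x) rfl rfl,
    ι_mapBifunctorShift₁Iso_hom_f_assoc _ _ _ _ _ _ _ _ (p + x) (n + x) rfl rfl]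

theorem isKFlat_unit : DRing.IsKFlat A (𝟙_ (DRing.Cx A)) := by
  refine isKFlat_of_concentrated _ 0 (fun n hn => ?_) ?_
  · exact HomologicalComplex.isZero_single_obj_X (ComplexShape.up ℤ) 0 _ n hn
  · have e : (𝟙_ (DRing.Cx A)).X 0 ≅ 𝟙_ (ModuleCat.{u} A) :=
      HomologicalComplex.singleObjXSelf (ComplexShape.up ℤ) 0 _
    haveI : Module.Flat A (𝟙_ (ModuleCat.{u} A)) := (inferInstance : Module.Flat A A)
    exact Module.Flat.of_linearEquiv e.toLinearEquiv

/-- `𝟙_⟦n⟧ ⊗ Y ≅ Y⟦n⟧`, naturally in `Y` -/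
noncomputable def shiftUnitTensorIso (n : ℤ) :
    tensorLeft ((𝟙_ (DRing.Cx A))⟦n⟧) ≅ shiftFunctor (DRing.Cx A) n :=
  NatIso.ofComponents (fun Y =>
    CochainComplex.mapBifunctorShift₁Iso (𝟙_ (DRing.Cx A)) Y (curriedTensor (ModuleCat.{u} A)) n ≪≫
      (shiftFunctor (DRing.Cx A) n).mapIso (λ_ Y)) (by
    intro Y Y' g
    have h1 := mapBifunctorShift₁Iso_hom_naturality₂ (𝟙_ (DRing.Cx A)) g n
    have h2 := MonoidalCategory.leftUnitor_naturality g
    have h1' : ((𝟙_ (DRing.Cx A))⟦n⟧ ◁ g) ≫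
        (CochainComplex.mapBifunctorShift₁Iso (𝟙_ (DRing.Cx A)) Y'
          (curriedTensor (ModuleCat.{u} A)) n).hom =
        (CochainComplex.mapBifunctorShift₁Iso (𝟙_ (DRing.Cx A)) Y
          (curriedTensor (ModuleCat.{u} A)) n).hom ≫ (𝟙_ (DRing.Cx A) ◁ g)⟦n⟧' := by
      rw [← MonoidalCategory.id_tensorHom, ← MonoidalCategory.id_tensorHom]
      exact h1
    dsimp
    rw [reassoc_of% h1', Category.assoc, ← Functor.map_comp, ← Functor.map_comp, h2])

section Derived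

variable (A) [HasLTen A]

/-- `Q(𝟙_⟦n⟧) ⊗^L - ≅ shift n` -/
noncomputable def LTenShiftUnitIso (n : ℤ) :
    (LTen A).obj (DerivedCategory.Q.obj ((𝟙_ (DRing.Cx A))⟦n⟧)) ≅ shiftFunctor (Dual.D A) n :=
  Localization.liftNatIso DerivedCategory.Q (qis A)
    (DerivedCategory.Q ⋙ (LTen A).obj (DerivedCategory.Q.obj ((𝟙_ (DRing.Cx A))⟦n⟧)))
    (DerivedCategory.Q ⋙ shiftFunctor (Dual.D A) n) _ _
    (εLeftIso A ((𝟙_ (DRing.Cx A))⟦n⟧) (isKFlat_shift isKFlat_unit n) ≪≫
      Functor.isoWhiskerRight (shiftUnitTensorIso n) DerivedCategory.Q ≪≫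
      DerivedCategory.Q.commShiftIso n)

/-- `unit⟦n⟧ ⊗^L - ≅ shift n` -/
noncomputable def LTenUnitShiftIso (n : ℤ) :
    (LTen A).obj ((DTen.unit A)⟦n⟧) ≅ shiftFunctor (Dual.D A) n :=
  (LTen A).mapIso ((DerivedCategory.Q.commShiftIso n).app (𝟙_ (DRing.Cx A))).symm ≪≫
    LTenShiftUnitIso A n

instance isEquivalence_LTen_unit_shift (n : ℤ) :
    ((LTen A).obj ((DTen.unit A)⟦n⟧)).IsEquivalence :=
  Functor.isEquivalence_of_iso (LTenUnitShiftIso A n).symm

end Derived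

end Groth.Agent.Lib.Helper5.DTenLib
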