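import Mathlib
import Groth.Agent.Lib.Helper5.DTenLib.Basic

set_option autoImplicit false
set_option linter.unusedSectionVars false
set_option linter.unusedVariables false
universe u
open CategoryTheory CategoryTheory.Limits MonoidalCategory
attribute [local instance] HasDerivedCategory.standard

namespace Groth.Agent.Lib.Helper5.DTenLib

open DTen Groth.Agent.Lib.Helper5.KProj Groth.Agent.Lib.Helper5.KFlat

variable {A : Type u} [CommRing A]

theorem tensor₃_map_eq {X Y : DRing.Cx A × (DRing.Cx A × DRing.Cx A)} (f : X ⟶ Y) :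
    (tensor₃ A).map f = DerivedCategory.Q.map (f.1 ⊗ₘ (f.2.1 ⊗ₘ f.2.2)) := by
  dsimp [tensor₃, tensorT₃, tensorT]
  rw [MonoidalCategory.tensorHom_def, MonoidalCategory.tensorHom_def]

noncomputable def homotopy_tensorHom {X Y X' Y' : DRing.Cx A} {f g : X ⟶ Y} {f' g' : X' ⟶ Y'}
    (h : Homotopy f g) (h' : Homotopy f' g') : Homotopy (f ⊗ₘ f') (g ⊗ₘ g') :=
  (HomologicalComplex.mapBifunctorMapHomotopy₁ h f' (curriedTensor (ModuleCat.{u} A))
      (ComplexShape.up ℤ)).trans
    (HomologicalComplex.mapBifunctorMapHomotopy₂ g h' (curriedTensor (ModuleCat.{u} A))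
      (ComplexShape.up ℤ))

variable (A)

theorem good₃ (P P' P'' : DRing.Cx A) [P.IsKProjective] [P'.IsKProjective] [P''.IsKProjective] :
    PtKan.Good (QQQ A) (tensor₃ A) (P, (P', P'')) where
  surj := by
    rintro ⟨Y, Y', Y''⟩ ⟨u, u', u''⟩
    obtain ⟨f, hf⟩ := exists_Q_map_eq P Y u
    obtain ⟨f', hf'⟩ := exists_Q_map_eq P' Y' u'
    obtain ⟨f'', hf''⟩ := exists_Q_map_eq P'' Y'' u''
    exact ⟨(f, (f', f'')), Prod.ext hf (Prod.ext hf' hf'')⟩
  inv := by
    rintro ⟨Y, Y', Y''⟩ ⟨f, f', f''⟩ ⟨g, g', g''⟩ h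
    obtain ⟨h1⟩ := homotopy_of_Q_map_eq P f g (congrArg Prod.fst h)
    obtain ⟨h2⟩ := homotopy_of_Q_map_eq P' f' g' (congrArg (fun t => t.2.1) h)
    obtain ⟨h3⟩ := homotopy_of_Q_map_eq P'' f'' g'' (congrArg (fun t => t.2.2) h)
    rw [tensor₃_map_eq, tensor₃_map_eq]
    exact Q_map_eq_of_homotopy (homotopy_tensorHom h1 (homotopy_tensorHom h2 h3))

theorem enough₃ (X : DRing.Cx A × (DRing.Cx A × DRing.Cx A)) :
    ∃ (P : DRing.Cx A × (DRing.Cx A × DRing.Cx A)) (f : P ⟶ X),
      qis₃ A f ∧ PtKan.Good (QQQ A) (tensor₃ A) P :=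
  ⟨(res X.1, (res X.2.1, res X.2.2)), (resMap X.1, (resMap X.2.1, resMap X.2.2)),
    ⟨(HomologicalComplex.mem_quasiIso_iff _).2 inferInstance,
      (HomologicalComplex.mem_quasiIso_iff _).2 inferInstance,
      (HomologicalComplex.mem_quasiIso_iff _).2 inferInstance⟩, good₃ A _ _ _⟩

theorem isIso_ε₃_of_isKProjective [HasLTen₃ A] (P P' P'' : DRing.Cx A) [P.IsKProjective]
    [P'.IsKProjective] [P''.IsKProjective] : IsIso ((ε₃ A).app (P, (P', P''))) :=
  PtKan.isIso_counit_app (QQQ A) (tensor₃ A) (qis₃ A) (enough₃ A) (LTen₃ A) (ε₃ A)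
    (good₃ A P P' P'')

theorem isIso_LTen₂_map [HasLTen A] {X Y : Dual.D A × Dual.D A} (f : X ⟶ Y) (h1 : IsIso f.1)
    (h2 : IsIso f.2) : IsIso ((LTen₂ A).map f) := by
  have : IsIso f := by
    rw [isIso_prod_iff]
    exact ⟨h1, h2⟩
  infer_instance

theorem isIso_assocR_res [HasLTen A] [HasLTen₃ A] (X Y Z : DRing.Cx A) :
    IsIso ((assocR A).app ((QQQ A).obj (res X, (res Y, res Z)))) := by
  have hfac := assocR_fac A (res X, (res Y, res Z))
  have i1 : IsIso ((ε₃ A).app (res X, (res Y, res Z))) := isIso_ε₃_of_isKProjective A _ _ _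
  have i2 : IsIso ((βR A).app (res X, (res Y, res Z))) := by
    dsimp [βR]
    have j1 : IsIso ((ε A).app (res Y, res Z)) := isIso_ε_of_isKProjective A _ _
    have j2 := isIso_LTen₂_map A (Prod.mkHom (𝟙 (DerivedCategory.Q.obj (res X)))
      ((ε A).app (res Y, res Z))) (by dsimp; infer_instance) (by dsimp; exact j1)
    have j3 : IsIso ((ε A).app (res X, res Y ⊗ res Z)) :=
      isIso_ε_of_isKFlat A _ _ (Or.inl (isKFlat_res X))
    exact IsIso.comp_isIso' j2 j3
  rw [← hfac] at i2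
  exact IsIso.of_isIso_comp_right _ ((ε₃ A).app (res X, (res Y, res Z)))

theorem isIso_assocL_res [HasLTen A] [HasLTen₃ A] (X Y Z : DRing.Cx A) :
    IsIso ((assocL A).app ((QQQ A).obj (res X, (res Y, res Z)))) := by
  have hfac := assocL_fac A (res X, (res Y, res Z))
  have i1 : IsIso ((ε₃ A).app (res X, (res Y, res Z))) := isIso_ε₃_of_isKProjective A _ _ _
  have i2 : IsIso ((βL A).app (res X, (res Y, res Z))) := by
    dsimp [βL]
    have j1 : IsIso ((ε A).app (res X, res Y)) := isIso_ε_of_isKProjective A _ _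
    have j2 := isIso_LTen₂_map A (Prod.mkHom ((ε A).app (res X, res Y))
      (𝟙 (DerivedCategory.Q.obj (res Z)))) (by dsimp; exact j1) (by dsimp; infer_instance)
    have j3 : IsIso ((ε A).app (res X ⊗ res Y, res Z)) :=
      isIso_ε_of_isKFlat A _ _ (Or.inr (isKFlat_res Z))
    have j4 : IsIso (DerivedCategory.Q.map (α_ (res X) (res Y) (res Z)).hom) := inferInstance
    exact IsIso.comp_isIso' j2 (IsIso.comp_isIso' j3 j4)
  rw [← hfac] at i2
  exact IsIso.of_isIso_comp_right _ ((ε₃ A).app (res X, (res Y, res Z)))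

/-- every triple of objects is isomorphic to the image of a triple of resolutions -/
noncomputable def tripleIso (a b c : Dual.D A) :
    (a, (b, c)) ≅ (QQQ A).obj (res (DerivedCategory.Q.objPreimage a),
      (res (DerivedCategory.Q.objPreimage b), res (DerivedCategory.Q.objPreimage c))) :=
  Iso.prod ((DerivedCategory.Q.objObjPreimageIso a).symm ≪≫
      (asIso (DerivedCategory.Q.map (resMap (DerivedCategory.Q.objPreimage a)))).symm)
    (Iso.prod ((DerivedCategory.Q.objObjPreimageIso b).symm ≪≫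
        (asIso (DerivedCategory.Q.map (resMap (DerivedCategory.Q.objPreimage b)))).symm)
      ((DerivedCategory.Q.objObjPreimageIso c).symm ≪≫
        (asIso (DerivedCategory.Q.map (resMap (DerivedCategory.Q.objPreimage c)))).symm))

theorem isIso_assoc_app [HasLTen A] [HasLTen₃ A] (a b c : Dual.D A) :
    IsIso ((assocL A).app (a, (b, c))) ∧ IsIso ((assocR A).app (a, (b, c))) := by
  constructor
  · rw [NatTrans.isIso_app_iff_of_iso (assocL A) (tripleIso A a b c)]
    exact isIso_assocL_res A _ _ _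
  · rw [NatTrans.isIso_app_iff_of_iso (assocR A) (tripleIso A a b c)]
    exact isIso_assocR_res A _ _ _

end Groth.Agent.Lib.Helper5.DTenLib
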