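import Mathlib
import Groth.Prelude.Def_DTen

set_option autoImplicit false
set_option linter.unusedSectionVars false
set_option linter.unusedVariables false
universe u
open CategoryTheory CategoryTheory.Limits MonoidalCategory
attribute [local instance] HasDerivedCategory.standard

namespace Groth.Agent.Lib.Helper5.DTenLib

open DTen

variable {A : Type u} [CommRing A]

theorem braidCx_hom_hom (K L : DRing.Cx A) :
    (braidCx K L).hom ≫ (braidCx L K).hom = 𝟙 (K ⊗ L) := by
  refine HomologicalComplex.hom_ext _ _ (fun n => HomologicalComplex.mapBifunctor.hom_ext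
    (fun p q h => ?_))
  rw [HomologicalComplex.comp_f, HomologicalComplex.id_f]
  refine Eq.trans ?_ (Category.comp_id _).symm
  erw [ι_braidCx_hom_assoc K L p q n h]
  rw [Linear.units_smul_comp, Category.assoc]
  erw [ι_braidCx_hom L K q p n (by have : p + q = n := h; omega)]
  rw [Linear.comp_units_smul, smul_smul, ← Category.assoc]
  erw [SymmetricCategory.symmetry]
  rw [Category.id_comp, mul_comm q p, ← Int.negOnePow_add, ← two_mul, Int.negOnePow_two_mul,
    one_smul]

variable (A)

/-- the composite of the symmetry with itself -/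
noncomputable def symm2 [HasLTen A] : LTen₂ A ⟶ LTen₂ A where
  app X := (symm A).app (X.2, X.1) ≫ (symm A).app X
  naturality X Y f := by
    have h1 := (symm A).naturality (X := (X.2, X.1)) (Y := (Y.2, Y.1)) (Prod.mkHom f.2 f.1)
    have h2 := (symm A).naturality f
    dsimp at h1 h2 ⊢
    erw [reassoc_of% h1, h2]
    rw [Category.assoc]

theorem symm2_eq_id [HasLTen A] : symm2 A = 𝟙 _ := by
  refine (LTen₂ A).leftDerived_ext (ε A) (qis₂ A) _ _ _ ?_
  ext ⟨K, L⟩
  dsimp [symm2]
  rw [Category.assoc]
  erw [symm_fac A K L, Category.id_comp]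
  rw [← Category.assoc]
  erw [symm_fac A L K]
  rw [Category.assoc, ← Functor.map_comp, braidCx_hom_hom]
  erw [CategoryTheory.Functor.map_id, Category.comp_id]

theorem symm_app_comp [HasLTen A] (K L : Dual.D A) :
    (symm A).app (L, K) ≫ (symm A).app (K, L) = 𝟙 _ :=
  congrArg (fun t => t.app (K, L)) (symm2_eq_id A)

theorem isIso_symm_app [HasLTen A] (K L : Dual.D A) : IsIso ((symm A).app (K, L)) :=
  ⟨(symm A).app (L, K), symm_app_comp A L K, symm_app_comp A K L⟩

end Groth.Agent.Lib.Helper5.DTenLib
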