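import Mathlib
import Groth.Agent.Lib.Helper5.DTenLib.Basic
import Groth.Agent.Lib.Helper5.DTenLib.Assoc
import Groth.Agent.Lib.Helper5.DTenLib.Symm
import Groth.Agent.Lib.Helper5.DTenLib.ShiftUnit
import Groth.Agent.Lib.Helper5.HomCx.Univ
import Groth.Agent.Lib.Helper5.Gen.Sigma

/-!
# The binders of the derived tensor product hold for every commutative ring (helper5)

`HasLTen A`, `HasLTen₃ A`, `IsSymMonoidal A`, `HasRHom A` for an arbitrary commutative ring `A`.
These are never concluded by a statement; they are used to apply binder-carrying library results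
inside binder-free statements.
-/

set_option autoImplicit false
set_option linter.unusedSectionVars false
set_option linter.unusedVariables false
set_option linter.style.haveILetI false
universe u
open CategoryTheory CategoryTheory.Limits MonoidalCategory
attribute [local instance] HasDerivedCategory.standard

namespace Groth.Agent.Lib.Helper5.DTenLib

open DTen Groth.Agent.Lib.Helper5.KProj Groth.Agent.Lib.Helper5.KFlat
  Groth.Agent.Lib.Helper5.HomCx

variable (A : Type u) [CommRing A]

theorem hasLTen_all : HasLTen A := by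
  have := PtKan.hasPointwiseLeftDerivedFunctor (QQ A) (tensor₂ A) (qis₂ A) (enough₂ A)
  infer_instance

theorem hasLTen₃_all : HasLTen₃ A := by
  have := PtKan.hasPointwiseLeftDerivedFunctor (QQQ A) (tensor₃ A) (qis₃ A) (enough₃ A)
  infer_instance

theorem isIso_unitR_app [HasLTen A] (X : Dual.D A) : IsIso ((unitR A).app X) := by
  let K := DerivedCategory.Q.objPreimage X
  let e : DerivedCategory.Q.obj K ≅ X := DerivedCategory.Q.objObjPreimageIso X
  rw [← NatTrans.isIso_app_iff_of_iso (unitR A) e, unitR_app]
  haveI := isIso_ε_of_isKFlat A K (𝟙_ (DRing.Cx A)) (Or.inr isKFlat_unit)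
  infer_instance

theorem isIso_unitL_app [HasLTen A] (X : Dual.D A) : IsIso ((unitL A).app X) := by
  let K := DerivedCategory.Q.objPreimage X
  let e : DerivedCategory.Q.obj K ≅ X := DerivedCategory.Q.objObjPreimageIso X
  rw [← NatTrans.isIso_app_iff_of_iso (unitL A) e, unitL_app]
  haveI := isIso_ε_of_isKFlat A (𝟙_ (DRing.Cx A)) K (Or.inl isKFlat_unit)
  infer_instance

theorem isSymMonoidal_all [HasLTen A] [HasLTen₃ A] : IsSymMonoidal A where
  isIso_symm := by
    haveI : ∀ X, IsIso ((symm A).app X) := fun X => isIso_symm_app A X.1 X.2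
    exact NatIso.isIso_of_isIso_app _
  isIso_unitL := by
    haveI : ∀ X, IsIso ((unitL A).app X) := fun X => isIso_unitL_app A X
    exact NatIso.isIso_of_isIso_app _
  isIso_unitR := by
    haveI : ∀ X, IsIso ((unitR A).app X) := fun X => isIso_unitR_app A X
    exact NatIso.isIso_of_isIso_app _
  isIso_assocL := by
    haveI : ∀ X, IsIso ((assocL A).app X) := fun X => (isIso_assoc_app A X.1 X.2.1 X.2.2).1
    exact NatIso.isIso_of_isIso_app _
  isIso_assocR := by
    haveI : ∀ X, IsIso ((assocR A).app X) := fun X => (isIso_assoc_app A X.1 X.2.1 X.2.2).2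
    exact NatIso.isIso_of_isIso_app _

section RHom

variable {A} [HasLTen A]

/-- the candidate value `RHom(Q P, M)` -/
noncomputable def rhomObj (P : DRing.Cx A) (M : Dual.D A) : Dual.D A :=
  DerivedCategory.Q.obj (DRing.homCx P (DerivedCategory.Q.objPreimage M))

/-- the candidate evaluation -/
noncomputable def rhomEv (P : DRing.Cx A) (M : Dual.D A) :
    (tensorRightD A (DerivedCategory.Q.obj P)).obj (rhomObj P M) ⟶ M :=
  evD P (DerivedCategory.Q.objPreimage M) M (DerivedCategory.Q.objObjPreimageIso M)

theorem bijective_rhomEv (P : DRing.Cx A) [P.IsKProjective] (X M : Dual.D A) :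
    Function.Bijective (fun f : X ⟶ rhomObj P M =>
      (tensorRightD A (DerivedCategory.Q.obj P)).map f ≫ rhomEv P M) := by
  have hP : DRing.IsKFlat A P := _root_.Helper5.Gen.isKFlat_of_isKProjective P
  let w₀ := DerivedCategory.Q.objPreimage X
  let e : DerivedCategory.Q.obj (res w₀) ≅ X :=
    asIso (DerivedCategory.Q.map (resMap w₀)) ≪≫ DerivedCategory.Q.objObjPreimageIso X
  have hb := bijective_evD (res w₀) P (DerivedCategory.Q.objPreimage M) M
    (DerivedCategory.Q.objObjPreimageIso M) hP
  have key : ∀ f : X ⟶ rhomObj P M,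
      (tensorRightD A (DerivedCategory.Q.obj P)).map e.hom ≫
        ((tensorRightD A (DerivedCategory.Q.obj P)).map f ≫ rhomEv P M) =
      (LTen₂ A).map (Prod.mkHom (e.hom ≫ f) (𝟙 (DerivedCategory.Q.obj P))) ≫
        evD P (DerivedCategory.Q.objPreimage M) M (DerivedCategory.Q.objObjPreimageIso M) := by
    intro f
    rw [← Category.assoc, ← Functor.map_comp]
    rfl
  constructor
  · intro f f' hff'
    dsimp only at hff'
    have h1 := key f
    have h2 := key f'
    rw [hff'] at h1
    have := hb.1 (h1.symm.trans h2)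
    exact (cancel_epi e.hom).1 this
  · intro u
    obtain ⟨f₀, hf₀⟩ := hb.2 ((tensorRightD A (DerivedCategory.Q.obj P)).map e.hom ≫ u)
    dsimp only at hf₀
    refine ⟨e.inv ≫ f₀, ?_⟩
    dsimp only
    have h1 := key (e.inv ≫ f₀)
    rw [Iso.hom_inv_id_assoc] at h1
    replace h1 := h1.trans hf₀
    haveI : IsIso ((tensorRightD A (DerivedCategory.Q.obj P)).map e.hom) := inferInstance
    exact (cancel_epi ((tensorRightD A (DerivedCategory.Q.obj P)).map e.hom)).1 h1

/-- the hom bijection -/
noncomputable def rhomEquiv (P : DRing.Cx A) [P.IsKProjective] (X M : Dual.D A) :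
    ((tensorRightD A (DerivedCategory.Q.obj P)).obj X ⟶ M) ≃ (X ⟶ rhomObj P M) :=
  (Equiv.ofBijective _ (bijective_rhomEv P X M)).symm

theorem rhomEquiv_symm_apply (P : DRing.Cx A) [P.IsKProjective] (X M : Dual.D A)
    (f : X ⟶ rhomObj P M) :
    (rhomEquiv P X M).symm f =
      (tensorRightD A (DerivedCategory.Q.obj P)).map f ≫ rhomEv P M := rfl

theorem isLeftAdjoint_tensorRightD_Q (P : DRing.Cx A) [P.IsKProjective] :
    (tensorRightD A (DerivedCategory.Q.obj P)).IsLeftAdjoint := by
  refine ⟨_, ⟨Adjunction.adjunctionOfEquivRight (fun X M => rhomEquiv P X M) ?_⟩⟩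
  intro X' X M f g
  apply (rhomEquiv P X' M).symm.injective
  rw [Equiv.symm_apply_apply, rhomEquiv_symm_apply, Functor.map_comp, Category.assoc,
    ← rhomEquiv_symm_apply, Equiv.symm_apply_apply]

end RHom

theorem hasRHom_all [HasLTen A] : HasRHom A where
  isLeftAdjoint L := by
    let l := DerivedCategory.Q.objPreimage L
    let e : DerivedCategory.Q.obj (res l) ≅ L :=
      asIso (DerivedCategory.Q.map (resMap l)) ≪≫ DerivedCategory.Q.objObjPreimageIso L
    haveI := isLeftAdjoint_tensorRightD_Q (res l)
    exact Functor.isLeftAdjoint_of_iso ((LTen A).flip.mapIso e)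

end Groth.Agent.Lib.Helper5.DTenLib
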