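import Mathlib

set_option autoImplicit false
set_option linter.unusedSectionVars false
set_option linter.unusedVariables false
universe u
open CategoryTheory CategoryTheory.Limits

namespace Groth.Agent.Lib.Helper5.DTenThick

variable {D : Type*} [Category D]

/-- if `G ⋙ F₂ ≅ F₁` with `G` an equivalence, then the induced comparison of right adjoints
`G (R₁ M) ⟶ R₂ M` is an isomorphism -/
theorem isIso_mate₂_of_isEquivalence (F₁ R₁ F₂ R₂ G : D ⥤ D) (adj₁ : F₁ ⊣ R₁) (adj₂ : F₂ ⊣ R₂)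
    [G.IsEquivalence]
    (β : ∀ X : D, F₂.obj (G.obj X) ≅ F₁.obj X)
    (hβ : ∀ {X Y : D} (f : X ⟶ Y), F₂.map (G.map f) ≫ (β Y).hom = (β X).hom ≫ F₁.map f)
    (M : D) :
    IsIso (adj₂.homEquiv (G.obj (R₁.obj M)) M ((β (R₁.obj M)).hom ≫ adj₁.counit.app M)) := by
  have key : ∀ (W' : D) (g₀ : W' ⟶ R₁.obj M),
      G.map g₀ ≫ adj₂.homEquiv (G.obj (R₁.obj M)) M ((β (R₁.obj M)).hom ≫ adj₁.counit.app M) =
        adj₂.homEquiv _ _ ((β W').hom ≫ (adj₁.homEquiv W' M).symm g₀) := by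
    intro W' g₀
    rw [← adj₂.homEquiv_naturality_left, reassoc_of% (hβ g₀), Adjunction.homEquiv_counit]
  refine isIso_of_yoneda_map_bijective _ (fun W => ?_)
  let W' := G.objPreimage W
  let e : G.obj W' ≅ W := G.objObjPreimageIso W
  constructor
  · intro g₁ g₂ hg
    dsimp at hg
    have h1 : G.map (G.preimage (e.hom ≫ g₁)) ≫
          adj₂.homEquiv (G.obj (R₁.obj M)) M ((β (R₁.obj M)).hom ≫ adj₁.counit.app M) =
        G.map (G.preimage (e.hom ≫ g₂)) ≫
          adj₂.homEquiv (G.obj (R₁.obj M)) M ((β (R₁.obj M)).hom ≫ adj₁.counit.app M) := by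
      rw [G.map_preimage, G.map_preimage, Category.assoc, Category.assoc, hg]
    rw [key, key] at h1
    have h2 := (adj₂.homEquiv _ _).injective h1
    rw [cancel_epi] at h2
    have h3 := (adj₁.homEquiv W' M).symm.injective h2
    have h4 : e.hom ≫ g₁ = e.hom ≫ g₂ := by
      rw [← G.map_preimage (e.hom ≫ g₁), ← G.map_preimage (e.hom ≫ g₂), h3]
    exact (cancel_epi e.hom).1 h4
  · intro h
    let k : F₁.obj W' ⟶ M := (β W').inv ≫ F₂.map e.hom ≫ (adj₂.homEquiv _ _).symm h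
    refine ⟨e.inv ≫ G.map (adj₁.homEquiv _ _ k), ?_⟩
    dsimp
    rw [Category.assoc, key, Equiv.symm_apply_apply]
    dsimp [k]
    rw [Iso.hom_inv_id_assoc, adj₂.homEquiv_naturality_left, Equiv.apply_symm_apply,
      Iso.inv_hom_id_assoc]

end Groth.Agent.Lib.Helper5.DTenThick
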