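import Mathlib
import Groth.Agent.Lib.Helper5.DTenLib.TensorExact
import Groth.Agent.Lib.Helper5.DTenLib.ShiftUnit

set_option autoImplicit false
set_option linter.unusedSectionVars false
set_option linter.unusedVariables false
set_option linter.style.haveILetI false
universe u
open CategoryTheory CategoryTheory.Limits MonoidalCategory Pretriangulated
attribute [local instance] HasDerivedCategory.standard

namespace Groth.Agent.Lib.Helper5.DTenLib

open DTen Groth.Agent.Lib.Helper5.KProj Groth.Agent.Lib.Helper5.KFlat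
  Groth.Agent.Lib.Helper5.DTenThick

variable (A : Type u) [CommRing A] [HasLTen A] [HasLTen₃ A] [IsSymMonoidal A]

/-- the associator as a natural isomorphism -/
noncomputable def associatorNat : LTenL A ≅ LTenR A :=
  asIso (assocL A) ≪≫ (asIso (assocR A)).symm

variable {A}

theorem associatorNat_hom_app (a b c : Dual.D A) :
    (associatorNat A).hom.app (a, (b, c)) = (DTen.associator a b c).hom := by
  rfl

theorem associator_naturality {a a' b b' c c' : Dual.D A} (f : a ⟶ a') (g : b ⟶ b')
    (h : c ⟶ c') :
    (LTen₂ A).map (Prod.mkHom ((LTen₂ A).map (Prod.mkHom f g)) h) ≫ (DTen.associator a' b' c').hom =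
      (DTen.associator a b c).hom ≫
        (LTen₂ A).map (Prod.mkHom f ((LTen₂ A).map (Prod.mkHom g h))) := by
  have := (associatorNat A).hom.naturality
    (X := (a, (b, c))) (Y := (a', (b', c'))) (Prod.mkHom f (Prod.mkHom g h))
  rw [associatorNat_hom_app, associatorNat_hom_app] at this
  exact this

section Nat

variable [HasRHom A] (L M : Dual.D A)

theorem tensorRightD_map {K K' : Dual.D A} (X : Dual.D A) (f : K ⟶ K') :
    (tensorRightD A X).map f = (LTen₂ A).map (Prod.mkHom f (𝟙 X)) := rfl

theorem LTen₂_map_comp' {a a' a'' b b' b'' : Dual.D A} (f : a ⟶ a') (f' : a' ⟶ a'')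
    (g : b ⟶ b') (g' : b' ⟶ b'') :
    (LTen₂ A).map (Prod.mkHom f g) ≫ (LTen₂ A).map (Prod.mkHom f' g') =
      (LTen₂ A).map (Prod.mkHom (f ≫ f') (g ≫ g')) := by
  rw [← Functor.map_comp]
  rfl

theorem LTen₂_map_id' (a b : Dual.D A) :
    (LTen₂ A).map (Prod.mkHom (𝟙 a) (𝟙 b)) = 𝟙 _ := by
  rw [← (LTen₂ A).map_id]
  rfl

/-- `evalTen` as a natural transformation in the first variable -/
noncomputable def evalTenNat :
    tensorRightD A ((RHomR A M).obj L) ⟶ tensorRightD A L ⋙ RHomR A M where
  app K := evalTen K L M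
  naturality K K' f := by
    show (LTen₂ A).map (Prod.mkHom f (𝟙 ((RHomR A M).obj L))) ≫
        (rhomAdj A M).homEquiv _ _ (evalTenAux K' L M) =
      (rhomAdj A M).homEquiv _ _ (evalTenAux K L M) ≫
        (RHomR A M).map ((LTen₂ A).map (Prod.mkHom f (𝟙 L)))
    rw [← Adjunction.homEquiv_naturality_left, ← Adjunction.homEquiv_naturality_right]
    congr 1
    dsimp only [evalTenAux]
    rw [tensorRightD_map,
      reassoc_of% (associator_naturality f (𝟙 ((RHomR A M).obj L)) (𝟙 M)), Category.assoc,
      LTen₂_map_id', LTen₂_map_comp', LTen₂_map_comp']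
    simp

/-- `evalTen` is an isomorphism when `U ⊗^L -` is an equivalence -/
theorem isIso_evalTen_of_isEquivalence (U : Dual.D A) [((LTen A).obj U).IsEquivalence] :
    IsIso (evalTen U L M) := by
  refine isIso_mate_of_isEquivalence (tensorRightD A M) (RHomR A M) ((LTen A).obj U)
    (rhomAdj A M) (fun X => DTen.associator U X M) ?_ L (ev M L) ?_
  · intro X Y f
    have := associator_naturality (𝟙 U) f (𝟙 M)
    exact this
  · intro W g₀
    rw [Adjunction.homEquiv_counit]

/-- the base case: shifts of the unit -/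
theorem isIso_evalTen_unit_shift (n : ℤ) : IsIso (evalTen ((DTen.unit A)⟦n⟧) L M) :=
  isIso_evalTen_of_isEquivalence L M _

/-- **`evalTen K L M` is an isomorphism for perfect `K`** -/
theorem isIso_evalTen_of_isPerfect (K : Dual.D A) (hK : DRing.IsPerfect A K) :
    IsIso (evalTen K L M) := by
  have h₁ : CoyExact (tensorRightD A ((RHomR A M).obj L)) := coyExact_tensorRightD A _
  have h₂ : CoyExact (tensorRightD A L ⋙ RHomR A M) :=
    (coyExact_tensorRightD A L).comp_rightAdjoint (rhomAdj A M)
  haveI := isoLocus_isTriangulated (evalTenNat L M) h₁ h₂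
  have h := perfect_induction A (isoLocus (evalTenNat L M))
    (fun X Y hXY => isoLocus_of_biprod _ X Y hXY)
    (fun n => isIso_evalTen_unit_shift L M n) K hK
  exact isoLocus_app (evalTenNat L M) K h

end Nat

end Groth.Agent.Lib.Helper5.DTenLib
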