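import Mathlib
import Groth.Agent.Lib.Helper5.DTenLib.Thick

set_option autoImplicit false
set_option linter.unusedSectionVars false
set_option linter.unusedVariables false
set_option linter.style.haveILetI false
universe u
open CategoryTheory CategoryTheory.Limits Pretriangulated ZeroObject Opposite

namespace Groth.Agent.Lib.Helper5.DTenThick

variable {C : Type*} [Category C] [HasZeroObject C] [HasShift C ℤ] [Preadditive C]
  [∀ n : ℤ, (shiftFunctor C n).Additive] [Pretriangulated C]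

/-- coyoneda exactness of a composable pair -/
def CExact {X Y Z : C} (a : X ⟶ Y) (b : Y ⟶ Z) : Prop :=
  a ≫ b = 0 ∧ ∀ (W : C) (g : W ⟶ Y), g ≫ b = 0 → ∃ g' : W ⟶ X, g = g' ≫ a

/-- the five lemma for coyoneda-exact rows -/
theorem five' {A₁ A₂ A₃ A₄ A₅ B₁ B₂ B₃ B₄ B₅ : C}
    (a₁ : A₁ ⟶ A₂) (a₂ : A₂ ⟶ A₃) (a₃ : A₃ ⟶ A₄) (a₄ : A₄ ⟶ A₅)
    (b₁ : B₁ ⟶ B₂) (b₂ : B₂ ⟶ B₃) (b₃ : B₃ ⟶ B₄) (b₄ : B₄ ⟶ B₅)
    (t₁ : A₁ ⟶ B₁) (t₂ : A₂ ⟶ B₂) (t₃ : A₃ ⟶ B₃) (t₄ : A₄ ⟶ B₄) (t₅ : A₅ ⟶ B₅)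
    (c₁ : a₁ ≫ t₂ = t₁ ≫ b₁) (c₂ : a₂ ≫ t₃ = t₂ ≫ b₂) (c₃ : a₃ ≫ t₄ = t₃ ≫ b₃)
    (c₄ : a₄ ≫ t₅ = t₄ ≫ b₄)
    (e12 : CExact a₁ a₂) (e13 : CExact a₂ a₃) (e14 : CExact a₃ a₄)
    (e22 : CExact b₁ b₂) (e23 : CExact b₂ b₃) (e24 : CExact b₃ b₄)
    [IsIso t₁] [IsIso t₂] [IsIso t₄] [IsIso t₅] : IsIso t₃ := by
  obtain ⟨z0, e0⟩ := e12
  obtain ⟨z1, e1⟩ := e13
  obtain ⟨z2, e2⟩ := e14
  obtain ⟨w0, f0⟩ := e22
  obtain ⟨w1, f1⟩ := e23
  obtain ⟨w2, f2⟩ := e24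
  have inj : ∀ (W : C) (g : W ⟶ A₃), g ≫ t₃ = 0 → g = 0 := by
    intro W g hg
    have s1 : g ≫ a₃ = 0 := by
      rw [← cancel_mono t₄, Category.assoc, c₃, reassoc_of% hg, zero_comp, zero_comp]
    obtain ⟨g', rfl⟩ := e1 W g s1
    have s3 : (g' ≫ t₂) ≫ b₂ = 0 := by
      rw [Category.assoc, ← c₂, ← Category.assoc, hg]
    obtain ⟨g'', hg''⟩ := f0 W _ s3
    have s4 : g' = (g'' ≫ inv t₁) ≫ a₁ := by
      rw [← cancel_mono t₂, hg'', Category.assoc, Category.assoc, c₁, IsIso.inv_hom_id_assoc]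
    rw [s4, Category.assoc, z0, comp_zero]
  refine isIso_of_yoneda_map_bijective _ (fun W => ⟨?_, ?_⟩)
  · intro g₁ g₂ hg
    dsimp at hg
    have := inj W (g₁ - g₂) (by rw [Preadditive.sub_comp, hg, sub_self])
    exact sub_eq_zero.1 this
  · intro y
    have s1 : ((y ≫ b₃) ≫ inv t₄) ≫ a₄ = 0 := by
      rw [← cancel_mono t₅, Category.assoc, Category.assoc, c₄, IsIso.inv_hom_id_assoc,
        Category.assoc, zero_comp, w2, comp_zero]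
    obtain ⟨x₂, hx₂⟩ := e2 W _ s1
    have s2 : (y - x₂ ≫ t₃) ≫ b₃ = 0 := by
      rw [Preadditive.sub_comp, Category.assoc, ← c₃, ← reassoc_of% hx₂]
      simp
    obtain ⟨y₁, hy₁⟩ := f1 W _ s2
    refine ⟨x₂ + (y₁ ≫ inv t₂) ≫ a₂, ?_⟩
    dsimp
    rw [Preadditive.add_comp, Category.assoc, Category.assoc, c₂, IsIso.inv_hom_id_assoc, ← hy₁]
    abel

theorem CoyExact.map_zero {G : C ⥤ C} (hG : CoyExact G) (X Y : C) :
    G.map (0 : X ⟶ Y) = 0 := by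
  have h0 : (0 : X ⟶ Y) = (0 : X ⟶ (0 : C)) ≫ (0 : (0 : C) ⟶ Y) := by simp
  rw [h0, G.map_comp,
    (isZero_obj_of_isZero hG _ (isZero_zero C)).eq_of_tgt (G.map (0 : X ⟶ (0 : C))) 0, zero_comp]

/-- a `CoyExact` functor preserves coyoneda-exact pairs -/
theorem CExact.map {G : C ⥤ C} (hG : CoyExact G) {X Y Z : C} {a : X ⟶ Y} {b : Y ⟶ Z}
    (h : CExact a b) : CExact (G.map a) (G.map b) := by
  obtain ⟨Z', i, δ, hT⟩ := distinguished_cocone_triangle₁ b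
  obtain ⟨t, ht⟩ := h.2 Z' i (comp_distTriang_mor_zero₁₂ _ hT)
  obtain ⟨-, hex⟩ := hG _ hT
  constructor
  · rw [← G.map_comp, h.1, hG.map_zero]
  · intro W g hg
    obtain ⟨g', hg'⟩ : ∃ g' : W ⟶ G.obj Z', g = g' ≫ G.map i := hex W g hg
    refine ⟨g' ≫ G.map t, ?_⟩
    rw [Category.assoc, ← G.map_comp, ← ht]
    exact hg'

section Op

/-- contravariant version of `CoyExact` -/
def CoyExactOp (F : Cᵒᵖ ⥤ C) : Prop :=
  ∀ T ∈ distTriang C, CExact (F.map T.mor₂.op) (F.map T.mor₁.op)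

theorem CoyExactOp.comp {F : Cᵒᵖ ⥤ C} (hF : CoyExactOp F) {G : C ⥤ C} (hG : CoyExact G) :
    CoyExactOp (F ⋙ G) :=
  fun T hT => (hF T hT).map hG

variable {F₁ F₂ : Cᵒᵖ ⥤ C} (τ : F₁ ⟶ F₂)

/-- objects all of whose shifts are sent to isomorphisms by `τ` -/
def isoLocusOp : ObjectProperty C := fun K => ∀ n : ℤ, IsIso (τ.app (op (K⟦n⟧)))

theorem isIso_app_op_of_iso {X Y : C} (e : X ≅ Y) (h : IsIso (τ.app (op X))) :
    IsIso (τ.app (op Y)) := by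
  have : τ.app (op Y) = F₁.map e.hom.op ≫ τ.app (op X) ≫ F₂.map e.inv.op := by
    rw [← τ.naturality, ← Category.assoc, ← F₁.map_comp, ← op_comp, e.inv_hom_id, op_id,
      CategoryTheory.Functor.map_id, Category.id_comp]
  rw [this]
  infer_instance

theorem isIso_app_op_of_retract {X Z : C} (i : X ⟶ Z) (p : Z ⟶ X) (hip : i ≫ p = 𝟙 X)
    (h : IsIso (τ.app (op Z))) : IsIso (τ.app (op X)) := by
  have hpi : p.op ≫ i.op = 𝟙 (op X) := by rw [← op_comp, hip, op_id]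
  refine ⟨F₂.map p.op ≫ inv (τ.app (op Z)) ≫ F₁.map i.op, ?_, ?_⟩
  · rw [← τ.naturality_assoc, IsIso.hom_inv_id_assoc, ← F₁.map_comp, hpi,
      CategoryTheory.Functor.map_id]
  · rw [Category.assoc, Category.assoc, τ.naturality, IsIso.inv_hom_id_assoc, ← F₂.map_comp,
      hpi, CategoryTheory.Functor.map_id]

instance : (isoLocusOp τ).IsClosedUnderIsomorphisms where
  of_iso e h n := isIso_app_op_of_iso τ ((shiftFunctor C n).mapIso e) (h n)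

theorem isoLocusOp_shift (K : C) (h : isoLocusOp τ K) (a : ℤ) : isoLocusOp τ (K⟦a⟧) := fun n =>
  isIso_app_op_of_iso τ ((shiftFunctorAdd' C a n (a + n) rfl).app K) (h (a + n))

theorem isoLocusOp_app (K : C) (h : isoLocusOp τ K) : IsIso (τ.app (op K)) :=
  isIso_app_op_of_iso τ ((shiftFunctorZero C ℤ).app K) (h 0)

instance : (isoLocusOp τ).IsStableUnderShift ℤ where
  isStableUnderShiftBy a := ⟨fun K h => isoLocusOp_shift τ K h a⟩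

theorem isoLocusOp_of_retract {X Z : C} (i : X ⟶ Z) (p : Z ⟶ X) (hip : i ≫ p = 𝟙 X)
    (h : isoLocusOp τ Z) : isoLocusOp τ X := fun n =>
  isIso_app_op_of_retract τ (i⟦n⟧') (p⟦n⟧')
    (by rw [← Functor.map_comp, hip, CategoryTheory.Functor.map_id]) (h n)

theorem isoLocusOp_of_biprod (X Y : C) [HasBinaryBiproduct X Y] (h : isoLocusOp τ (X ⊞ Y)) :
    isoLocusOp τ X :=
  isoLocusOp_of_retract τ biprod.inl biprod.fst (by simp) h

theorem isZero_obj_op_of_isZero {F : Cᵒᵖ ⥤ C} (h : CoyExactOp F) (Z : C) (hZ : IsZero Z) :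
    IsZero (F.obj (op Z)) := by
  obtain ⟨h0, -⟩ := h _ (contractible_distinguished Z)
  have h0' : F.map (0 : Z ⟶ (0 : C)).op ≫ F.map (𝟙 Z).op = 0 := h0
  rw [IsZero.iff_id_eq_zero]
  have e : Z ≅ (0 : C) := hZ.iso (isZero_zero C)
  have h2 : F.map (0 : Z ⟶ (0 : C)).op = F.map e.hom.op := by
    congr 2
    exact hZ.eq_of_src _ _
  have h3 : F.map e.hom.op = 0 := by
    rw [← h2, ← Category.comp_id (F.map (0 : Z ⟶ (0 : C)).op), ← F.map_id, ← op_id, h0']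
  have : IsIso (F.map e.hom.op) := inferInstance
  rw [← cancel_epi (F.map e.hom.op), h3, zero_comp, zero_comp]

theorem isoLocusOp_containsZero (h₁ : CoyExactOp F₁) (h₂ : CoyExactOp F₂) :
    (isoLocusOp τ).ContainsZero where
  exists_zero := ⟨(0 : C), isZero_zero C, fun n => by
    have hz : IsZero ((0 : C)⟦n⟧) := (shiftFunctor C n).map_isZero (isZero_zero C)
    exact ⟨(0 : F₂.obj (op ((0 : C)⟦n⟧)) ⟶ F₁.obj (op ((0 : C)⟦n⟧))),
      (isZero_obj_op_of_isZero h₁ _ hz).eq_of_src _ _,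
      (isZero_obj_op_of_isZero h₂ _ hz).eq_of_src _ _⟩⟩

theorem isIso_app_op_obj₂ (h₁ : CoyExactOp F₁) (h₂ : CoyExactOp F₂) (T : Triangle C)
    (hT : T ∈ distTriang C)
    (i₀ : IsIso (τ.app (op T.invRotate.obj₁))) (i₁ : IsIso (τ.app (op T.obj₁)))
    (i₃ : IsIso (τ.app (op T.obj₃))) (i₄ : IsIso (τ.app (op (T.obj₁⟦(1 : ℤ)⟧)))) :
    IsIso (τ.app (op T.obj₂)) := by
  have hT' := inv_rot_of_distTriang _ hT
  have hT'' := rot_of_distTriang _ hT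
  exact @five' _ _ _ _ _ _ _ _ _ _ _ _ _ _ _ _ _
    (F₁.map T.mor₃.op) (F₁.map T.mor₂.op) (F₁.map T.mor₁.op) (F₁.map T.invRotate.mor₁.op)
    (F₂.map T.mor₃.op) (F₂.map T.mor₂.op) (F₂.map T.mor₁.op) (F₂.map T.invRotate.mor₁.op)
    (τ.app (op (T.obj₁⟦(1 : ℤ)⟧))) (τ.app (op T.obj₃)) (τ.app (op T.obj₂)) (τ.app (op T.obj₁))
    (τ.app (op T.invRotate.obj₁))
    (τ.naturality _) (τ.naturality _) (τ.naturality _) (τ.naturality _)
    (h₁ _ hT'') (h₁ _ hT) (h₁ _ hT') (h₂ _ hT'') (h₂ _ hT) (h₂ _ hT') i₄ i₃ i₁ i₀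

theorem isoLocusOp_isTriangulated (h₁ : CoyExactOp F₁) (h₂ : CoyExactOp F₂) :
    (isoLocusOp τ).IsTriangulated := by
  haveI := isoLocusOp_containsZero τ h₁ h₂
  haveI : (isoLocusOp τ).IsTriangulatedClosed₂ := ObjectProperty.IsTriangulatedClosed₂.mk' (by
    intro T hT i1 i3 n
    have hTn := Triangle.shift_distinguished T hT n
    exact isIso_app_op_obj₂ τ h₁ h₂ _ hTn
      (isoLocusOp_app τ _ (isoLocusOp_shift τ _ (isoLocusOp_shift τ _ i3 n) (-1)))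
      (i1 n) (i3 n) (isoLocusOp_app τ _ (isoLocusOp_shift τ _ (isoLocusOp_shift τ _ i1 n) 1)))
  exact {}

end Op

end Groth.Agent.Lib.Helper5.DTenThick
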