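import Mathlib
import Groth.Agent.Lib.Helper5.DTenLib.EvalTen
import Groth.Agent.Lib.Helper5.DTenLib.ThickOp

set_option autoImplicit false
set_option linter.unusedSectionVars false
set_option linter.unusedVariables false
set_option linter.style.haveILetI false
universe u
open CategoryTheory CategoryTheory.Limits MonoidalCategory Pretriangulated Opposite
attribute [local instance] HasDerivedCategory.standard

namespace Groth.Agent.Lib.Helper5.DTenLib

open DTen Groth.Agent.Lib.Helper5.KProj Groth.Agent.Lib.Helper5.KFlat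
  Groth.Agent.Lib.Helper5.DTenThick

variable {A : Type u} [CommRing A] [HasLTen A] [HasLTen₃ A] [IsSymMonoidal A] [HasRHom A]

theorem LTen₂_map_zero_left (X Y M : Dual.D A) :
    (LTen₂ A).map (Prod.mkHom (0 : X ⟶ Y) (𝟙 M)) = 0 :=
  (coyExact_tensorRightD A M).map_zero X Y

theorem LTen₂_map_zero_right (K X Y : Dual.D A) :
    (LTen₂ A).map (Prod.mkHom (𝟙 K) (0 : X ⟶ Y)) = 0 :=
  (coyExact_LTen_obj A K).map_zero X Y

theorem rhomHomEquiv_symm_zero (K L M : Dual.D A) :
    (rhomHomEquiv K L M).symm 0 = 0 := by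
  rw [Adjunction.homEquiv_counit, tensorRightD_map, LTen₂_map_zero_left, zero_comp]

theorem rhomHomEquiv_zero (K L M : Dual.D A) :
    rhomHomEquiv K L M 0 = 0 := by
  rw [← rhomHomEquiv_symm_zero K L M, Equiv.apply_symm_apply]

theorem braiding_naturality_right (W : Dual.D A) {M M' : Dual.D A} (a : M' ⟶ M) :
    (braiding W M').hom ≫ (LTen₂ A).map (Prod.mkHom (𝟙 W) a) =
      (LTen₂ A).map (Prod.mkHom a (𝟙 W)) ≫ (braiding W M).hom := by
  have := (symm A).naturality (X := (W, M')) (Y := (W, M)) (Prod.mkHom (𝟙 W) a)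
  exact this.symm

/-- the swap equivalence `Hom(W, R(M, L)) ≃ Hom(M, R(W, L))` -/
noncomputable def swapEquiv (W M L : Dual.D A) :
    (W ⟶ (RHomR A M).obj L) ≃ (M ⟶ (RHomR A W).obj L) where
  toFun g := rhomHomEquiv M W L ((braiding W M).hom ≫ (rhomHomEquiv W M L).symm g)
  invFun h := rhomHomEquiv W M L ((braiding W M).inv ≫ (rhomHomEquiv M W L).symm h)
  left_inv g := by
    dsimp only
    rw [Equiv.symm_apply_apply, Iso.inv_hom_id_assoc, Equiv.apply_symm_apply]
  right_inv h := by
    dsimp only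
    rw [Equiv.symm_apply_apply, Iso.hom_inv_id_assoc, Equiv.apply_symm_apply]

theorem rhomHomEquiv_symm_comp_RHomMap {W M M' L : Dual.D A} (a : M' ⟶ M)
    (g : W ⟶ (RHomR A M).obj L) :
    (rhomHomEquiv W M' L).symm (g ≫ RHomMap a L) =
      (LTen₂ A).map (Prod.mkHom (𝟙 W) a) ≫ (rhomHomEquiv W M L).symm g := by
  rw [Adjunction.homEquiv_counit, Adjunction.homEquiv_counit, tensorRightD_map,
    tensorRightD_map]
  have h1 : (LTen₂ A).map (Prod.mkHom (g ≫ RHomMap a L) (𝟙 M')) =
      (LTen₂ A).map (Prod.mkHom g (𝟙 M')) ≫ (LTen₂ A).map (Prod.mkHom (RHomMap a L) (𝟙 M')) := by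
    rw [LTen₂_map_comp', Category.comp_id]
  rw [h1, Category.assoc]
  have h2 := RHom_map_ev a L
  dsimp only [ev] at h2
  rw [h2, ← Category.assoc, ← Category.assoc, LTen₂_map_comp', LTen₂_map_comp']
  simp

theorem swapEquiv_naturality {W M M' L : Dual.D A} (a : M' ⟶ M) (g : W ⟶ (RHomR A M).obj L) :
    swapEquiv W M' L (g ≫ RHomMap a L) = a ≫ swapEquiv W M L g := by
  dsimp only [swapEquiv, Equiv.coe_fn_mk]
  rw [rhomHomEquiv_symm_comp_RHomMap, reassoc_of% (braiding_naturality_right W a)]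
  exact Adjunction.homEquiv_naturality_left _ _ _

theorem swapEquiv_zero (W M L : Dual.D A) : swapEquiv W M L 0 = 0 := by
  dsimp only [swapEquiv, Equiv.coe_fn_mk]
  rw [rhomHomEquiv_symm_zero, comp_zero, rhomHomEquiv_zero]

theorem flip_map_op (L : Dual.D A) {M M' : Dual.D A} (a : M' ⟶ M) :
    ((RHom A).flip.obj L).map a.op = RHomMap a L := rfl

theorem cexact_RHomMap (L : Dual.D A) (T : Triangle (Dual.D A))
    (hT : T ∈ distTriang (Dual.D A)) :
    CExact (RHomMap T.mor₂ L) (RHomMap T.mor₁ L) := by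
  constructor
  · apply (swapEquiv ((RHomR A T.obj₃).obj L) T.obj₁ L).injective
    rw [swapEquiv_zero, swapEquiv_naturality]
    have h1 : RHomMap T.mor₂ L = 𝟙 _ ≫ RHomMap T.mor₂ L := (Category.id_comp _).symm
    rw [h1, swapEquiv_naturality, ← Category.assoc, comp_distTriang_mor_zero₁₂ _ hT, zero_comp]
  · intro W g hg
    have h1 : T.mor₁ ≫ swapEquiv W T.obj₂ L g = 0 := by
      rw [← swapEquiv_naturality, hg, swapEquiv_zero]
    obtain ⟨h, hh⟩ := Triangle.yoneda_exact₂ T hT _ h1
    refine ⟨(swapEquiv W T.obj₃ L).symm h, ?_⟩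
    apply (swapEquiv W T.obj₂ L).injective
    rw [swapEquiv_naturality, Equiv.apply_symm_apply, hh]

/-- `RHom(-, L)` is coyoneda-exact on distinguished triangles -/
theorem coyExactOp_RHom_flip (L : Dual.D A) : CoyExactOp ((RHom A).flip.obj L) :=
  fun T hT => cexact_RHomMap L T hT

theorem evalTen_naturality_M (K L : Dual.D A) {M M' : Dual.D A} (a : M' ⟶ M) :
    (LTen₂ A).map (Prod.mkHom (𝟙 K) (RHomMap a L)) ≫ evalTen K L M' =
      evalTen K L M ≫ RHomMap a ((LTen₂ A).obj (K, L)) := by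
  apply (rhomHomEquiv _ M' _).symm.injective
  rw [rhomHomEquiv_symm_comp_RHomMap]
  dsimp only [evalTen, rhomHomEquiv]
  rw [Adjunction.homEquiv_naturality_left_symm, Equiv.symm_apply_apply, Equiv.symm_apply_apply,
    tensorRightD_map]
  dsimp only [evalTenAux]
  have h1 := associator_naturality (𝟙 K) (RHomMap a L) (𝟙 M')
  have h2 := associator_naturality (𝟙 K) (𝟙 ((RHomR A M).obj L)) a
  rw [LTen₂_map_id'] at h2
  have h3 := RHom_map_ev a L
  dsimp only [ev] at h3
  rw [reassoc_of% h1, reassoc_of% h2, LTen₂_map_comp', LTen₂_map_comp', h3]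

/-- `evalTen` as a natural transformation in the third variable -/
noncomputable def evalTenNatM (K L : Dual.D A) :
    (RHom A).flip.obj L ⋙ (LTen A).obj K ⟶ (RHom A).flip.obj ((LTen₂ A).obj (K, L)) where
  app M := evalTen K L (unop M)
  naturality M M' a := evalTen_naturality_M K L a.unop

/-- `evalTen K L M` is an isomorphism when `- ⊗^L M` is an equivalence -/
theorem isIso_evalTen_of_isEquivalence_right (K L M : Dual.D A)
    [(tensorRightD A M).IsEquivalence] : IsIso (evalTen K L M) := by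
  haveI : (RHomR A M).IsEquivalence := (rhomAdj A M).isEquivalence_right_of_isEquivalence_left
  haveI : IsIso (ev M L) := by
    dsimp only [ev]
    infer_instance
  haveI : IsIso ((LTen₂ A).map (Prod.mkHom (𝟙 K) (ev M L))) :=
    inferInstanceAs (IsIso (((LTen A).obj K).map (ev M L)))
  haveI : IsIso (evalTenAux K L M) := by
    dsimp only [evalTenAux]
    infer_instance
  dsimp only [evalTen, rhomHomEquiv]
  rw [Adjunction.homEquiv_unit]
  infer_instance

/-- `- ⊗^L unit⟦n⟧` is an equivalence -/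
instance isEquivalence_tensorRightD_unit_shift (n : ℤ) :
    (tensorRightD A ((DTen.unit A)⟦n⟧)).IsEquivalence :=
  Functor.isEquivalence_of_iso (symmIso A ((DTen.unit A)⟦n⟧))

/-- **`evalTen K L M` is an isomorphism for perfect `M`** -/
theorem isIso_evalTen_of_isPerfect_M (K L M : Dual.D A) (hM : DRing.IsPerfect A M) :
    IsIso (evalTen K L M) := by
  have h₁ : CoyExactOp ((RHom A).flip.obj L ⋙ (LTen A).obj K) :=
    (coyExactOp_RHom_flip L).comp (coyExact_LTen_obj A K)
  have h₂ : CoyExactOp ((RHom A).flip.obj ((LTen₂ A).obj (K, L))) := coyExactOp_RHom_flip _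
  haveI := isoLocusOp_isTriangulated (evalTenNatM K L) h₁ h₂
  have h := perfect_induction A (isoLocusOp (evalTenNatM K L))
    (fun X Y hXY => isoLocusOp_of_biprod _ X Y hXY)
    (fun n => isIso_evalTen_of_isEquivalence_right K L _) M hM
  exact isoLocusOp_app (evalTenNatM K L) M h

end Groth.Agent.Lib.Helper5.DTenLib
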