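import Mathlib
import Groth.Agent.Lib.Helper5.HomCx.RHomTri
import Groth.Agent.Lib.Helper5.DTenLib.Mate2

set_option autoImplicit false
set_option linter.unusedSectionVars false
set_option linter.unusedVariables false
set_option linter.style.haveILetI false
universe u
open CategoryTheory CategoryTheory.Limits MonoidalCategory Pretriangulated Opposite
attribute [local instance] HasDerivedCategory.standard

namespace Groth.Agent.Lib.Helper5.DTenLib

open DTen Groth.Agent.Lib.Helper5.KProj Groth.Agent.Lib.Helper5.KFlat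
  Groth.Agent.Lib.Helper5.DTenThick Groth.Agent.Lib.Helper5.HomCx

variable {A : Type u} [CommRing A] [HasLTen A] [HasLTen₃ A] [IsSymMonoidal A] [HasRHom A]

theorem symm_ev_naturality {K K' : Dual.D A} (f : K ⟶ K') (L : Dual.D A) :
    (LTen₂ A).map (Prod.mkHom f (𝟙 ((RHomR A K').obj L))) ≫
        (symm A).app ((RHomR A K').obj L, K') ≫ DTen.ev K' L =
      (LTen₂ A).map (Prod.mkHom (𝟙 K) (RHomMap f L)) ≫
        (symm A).app ((RHomR A K).obj L, K) ≫ DTen.ev K L := by
  have n1 := (symm A).naturality (X := ((RHomR A K').obj L, K)) (Y := ((RHomR A K').obj L, K'))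
    (Prod.mkHom (𝟙 _) f)
  have n2 := (symm A).naturality (X := ((RHomR A K').obj L, K)) (Y := ((RHomR A K).obj L, K))
    (Prod.mkHom (RHomMap f L) (𝟙 K))
  have h3 := RHom_map_ev f L
  dsimp only [DTen.ev] at h3
  dsimp at n1 n2
  rw [← Category.assoc, ← Category.assoc]
  erw [n1, n2]
  rw [Category.assoc, Category.assoc]
  congr 1
  exact h3.symm

theorem evalHomAux_naturality {K K' : Dual.D A} (f : K ⟶ K') (L M : Dual.D A) :
    (LTen₂ A).map (Prod.mkHom ((LTen₂ A).map (Prod.mkHom (𝟙 ((RHomR A L).obj M)) f))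
        (𝟙 ((RHomR A K').obj L))) ≫ evalHomAux K' L M =
      (LTen₂ A).map (Prod.mkHom (𝟙 ((LTen₂ A).obj ((RHomR A L).obj M, K))) (RHomMap f L)) ≫
        evalHomAux K L M := by
  dsimp only [evalHomAux]
  have h1 := associator_naturality (𝟙 ((RHomR A L).obj M)) f (𝟙 ((RHomR A K').obj L))
  have h2 := associator_naturality (𝟙 ((RHomR A L).obj M)) (𝟙 K) (RHomMap f L)
  rw [LTen₂_map_id'] at h2
  rw [reassoc_of% h1, reassoc_of% h2]
  congr 1
  rw [← Category.assoc, ← Category.assoc, LTen₂_map_comp', LTen₂_map_comp', symm_ev_naturality]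


theorem evalHom_naturality {K K' : Dual.D A} (f : K ⟶ K') (L M : Dual.D A) :
    (LTen₂ A).map (Prod.mkHom (𝟙 ((RHomR A L).obj M)) f) ≫ evalHom K' L M =
      evalHom K L M ≫ RHomMap (RHomMap f L) M := by
  apply hom_ext_RHom
  have e1 : (LTen₂ A).map (Prod.mkHom ((LTen₂ A).map (Prod.mkHom (𝟙 ((RHomR A L).obj M)) f) ≫
      evalHom K' L M) (𝟙 ((RHomR A K').obj L))) ≫ DTen.ev ((RHomR A K').obj L) M =
      (LTen₂ A).map (Prod.mkHom ((LTen₂ A).map (Prod.mkHom (𝟙 ((RHomR A L).obj M)) f))
        (𝟙 ((RHomR A K').obj L))) ≫ evalHomAux K' L M := by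
    rw [← evalHom_fac, ← Category.assoc, LTen₂_map_comp', Category.comp_id]
  have e2 : (LTen₂ A).map (Prod.mkHom (evalHom K L M ≫ RHomMap (RHomMap f L) M)
      (𝟙 ((RHomR A K').obj L))) ≫ DTen.ev ((RHomR A K').obj L) M =
      (LTen₂ A).map (Prod.mkHom (𝟙 ((LTen₂ A).obj ((RHomR A L).obj M, K))) (RHomMap f L)) ≫
        evalHomAux K L M := by
    have s1 : (LTen₂ A).map (Prod.mkHom (evalHom K L M ≫ RHomMap (RHomMap f L) M)
        (𝟙 ((RHomR A K').obj L))) =
        (LTen₂ A).map (Prod.mkHom (evalHom K L M) (𝟙 ((RHomR A K').obj L))) ≫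
          (LTen₂ A).map (Prod.mkHom (RHomMap (RHomMap f L) M) (𝟙 ((RHomR A K').obj L))) := by
      rw [LTen₂_map_comp', Category.comp_id]
    have h3 := RHom_map_ev (RHomMap f L) M
    dsimp only [DTen.ev] at h3 ⊢
    rw [s1, Category.assoc, h3, ← evalHom_fac, ← Category.assoc, ← Category.assoc,
      LTen₂_map_comp', LTen₂_map_comp', Category.comp_id, Category.id_comp, Category.comp_id,
      Category.id_comp]
  rw [e1, e2, evalHomAux_naturality]

/-- `evalHom` as a natural transformation in the first variable -/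
noncomputable def evalHomNat (L M : Dual.D A) :
    (LTen A).obj ((RHomR A L).obj M) ⟶ RR L M where
  app K := evalHom K L M
  naturality K K' f := evalHom_naturality f L M


/-- `evalHom U L M` is an isomorphism when `- ⊗^L U` is an equivalence -/
theorem isIso_evalHom_of_isEquivalence (U L M : Dual.D A) [(tensorRightD A U).IsEquivalence] :
    IsIso (evalHom U L M) := by
  haveI : (RHomR A U).IsEquivalence := (rhomAdj A U).isEquivalence_right_of_isEquivalence_left
  haveI : IsIso (DTen.ev U L) := by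
    dsimp only [DTen.ev]
    infer_instance
  let θ : (LTen₂ A).obj (U, (RHomR A U).obj L) ≅ L :=
    braiding ((RHomR A U).obj L) U ≪≫ asIso (DTen.ev U L)
  let β : ∀ X : Dual.D A, (tensorRightD A ((RHomR A U).obj L)).obj ((tensorRightD A U).obj X) ≅
      (tensorRightD A L).obj X := fun X =>
    DTen.associator X U ((RHomR A U).obj L) ≪≫ ((LTen A).obj X).mapIso θ
  have hβ : ∀ {X Y : Dual.D A} (f : X ⟶ Y),
      (tensorRightD A ((RHomR A U).obj L)).map ((tensorRightD A U).map f) ≫ (β Y).hom =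
        (β X).hom ≫ (tensorRightD A L).map f := by
    intro X Y f
    have h1 := associator_naturality f (𝟙 U) (𝟙 ((RHomR A U).obj L))
    rw [LTen₂_map_id'] at h1
    change (LTen₂ A).map (Prod.mkHom ((LTen₂ A).map (Prod.mkHom f (𝟙 U)))
        (𝟙 ((RHomR A U).obj L))) ≫ (DTen.associator Y U ((RHomR A U).obj L)).hom ≫
          (LTen₂ A).map (Prod.mkHom (𝟙 Y) θ.hom) =
      ((DTen.associator X U ((RHomR A U).obj L)).hom ≫
        (LTen₂ A).map (Prod.mkHom (𝟙 X) θ.hom)) ≫ (LTen₂ A).map (Prod.mkHom f (𝟙 L))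
    rw [reassoc_of% h1, Category.assoc, LTen₂_map_comp', LTen₂_map_comp', Category.comp_id,
      Category.id_comp, Category.comp_id, Category.id_comp]
  have h := isIso_mate₂_of_isEquivalence (tensorRightD A L) (RHomR A L)
    (tensorRightD A ((RHomR A U).obj L)) (RHomR A ((RHomR A U).obj L)) (tensorRightD A U)
    (rhomAdj A L) (rhomAdj A _) β hβ M
  have e : evalHom U L M = (rhomAdj A ((RHomR A U).obj L)).homEquiv
      ((tensorRightD A U).obj ((RHomR A L).obj M)) M
      ((β ((RHomR A L).obj M)).hom ≫ (rhomAdj A L).counit.app M) := by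
    dsimp only [evalHom, evalHomAux, rhomHomEquiv]
    congr 1
    exact (Category.assoc _ _ _).symm
  rw [e]
  exact h


/-- **`evalHom K L M` is an isomorphism for perfect `K`** -/
theorem isIso_evalHom_of_isPerfect (K L M : Dual.D A) (hK : DRing.IsPerfect A K) :
    IsIso (evalHom K L M) := by
  have h₁ : CoyExact ((LTen A).obj ((RHomR A L).obj M)) := coyExact_LTen_obj A _
  have h₂ : CoyExact (RR L M) := coyExact_RR L M
  haveI := isoLocus_isTriangulated (evalHomNat L M) h₁ h₂
  have h := perfect_induction A (isoLocus (evalHomNat L M))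
    (fun X Y hXY => isoLocus_of_biprod _ X Y hXY)
    (fun n => isIso_evalHom_of_isEquivalence ((DTen.unit A)⟦n⟧) L M) K hK
  exact isoLocus_app (evalHomNat L M) K h

end Groth.Agent.Lib.Helper5.DTenLib
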