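import Mathlib
import Groth.Prelude.Def_DTen6
import Groth.Agent.Lib.Helper5.DTenLib.Base
import Groth.Agent.Lib.Helper5.DTenLib.Assoc
import Groth.Agent.Lib.Helper5.Gen.ExtKProj
import Groth.Agent.Lib.Helper5.HomCx.KProjTensor

/-!
# The two legs of the mixed triple derived tensor product are isomorphisms (helper5)
-/

set_option autoImplicit false
set_option linter.unusedSectionVars false
set_option linter.unusedVariables false
universe u
open CategoryTheory CategoryTheory.Limits MonoidalCategory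
attribute [local instance] HasDerivedCategory.standard

namespace Groth.Agent.Lib.Helper5.DTenLib

open DTen Groth.Agent.Lib.Helper5.KProj Groth.Agent.Lib.Helper5.KFlat
  Groth.Agent.Lib.Helper5.HomCx Helper5.Gen

variable {A B C : Type u} [CommRing A] [CommRing B] [CommRing C] (φ : A →+* B) (ψ : B →+* C)

theorem mix₃_map_eq {X Y : DRing.Cx A × (DRing.Cx B × DRing.Cx C)} (f : X ⟶ Y) :
    (mix₃ φ ψ).map f =
      DerivedCategory.Q.map ((extCx ψ).map ((extCx φ).map f.1 ⊗ₘ f.2.1) ⊗ₘ f.2.2) := by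
  dsimp [mix₃, mixT₃, mixT, tensorT, prod.inverseAssociator]
  rw [MonoidalCategory.tensorHom_def, MonoidalCategory.tensorHom_def]

theorem goodMix₃ (P : DRing.Cx A) (P' : DRing.Cx B) (P'' : DRing.Cx C) [P.IsKProjective]
    [P'.IsKProjective] [P''.IsKProjective] :
    PtKan.Good (QMix₃ A B C) (mix₃ φ ψ) (P, (P', P'')) where
  surj := by
    rintro ⟨Y, Y', Y''⟩ ⟨u, u', u''⟩
    obtain ⟨f, hf⟩ := exists_Q_map_eq P Y u
    obtain ⟨f', hf'⟩ := exists_Q_map_eq P' Y' u'
    obtain ⟨f'', hf''⟩ := exists_Q_map_eq P'' Y'' u''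
    exact ⟨(f, (f', f'')), Prod.ext hf (Prod.ext hf' hf'')⟩
  inv := by
    rintro ⟨Y, Y', Y''⟩ ⟨f, f', f''⟩ ⟨g, g', g''⟩ h
    obtain ⟨h1⟩ := homotopy_of_Q_map_eq P f g (congrArg Prod.fst h)
    obtain ⟨h2⟩ := homotopy_of_Q_map_eq P' f' g' (congrArg (fun t => t.2.1) h)
    obtain ⟨h3⟩ := homotopy_of_Q_map_eq P'' f'' g'' (congrArg (fun t => t.2.2) h)
    rw [mix₃_map_eq, mix₃_map_eq]
    exact Q_map_eq_of_homotopy (homotopy_tensorHom
      ((ModuleCat.extendScalars.{u, u, u} ψ).mapHomotopy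
        (homotopy_tensorHom ((ModuleCat.extendScalars.{u, u, u} φ).mapHomotopy h1) h2)) h3)

theorem enoughMix₃ (X : DRing.Cx A × (DRing.Cx B × DRing.Cx C)) :
    ∃ (P : DRing.Cx A × (DRing.Cx B × DRing.Cx C)) (f : P ⟶ X),
      qisMix₃ A B C f ∧ PtKan.Good (QMix₃ A B C) (mix₃ φ ψ) P :=
  ⟨(res X.1, (res X.2.1, res X.2.2)), (resMap X.1, (resMap X.2.1, resMap X.2.2)),
    ⟨(HomologicalComplex.mem_quasiIso_iff _).2 inferInstance,
      (HomologicalComplex.mem_quasiIso_iff _).2 inferInstance,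
      (HomologicalComplex.mem_quasiIso_iff _).2 inferInstance⟩, goodMix₃ φ ψ _ _ _⟩

theorem isIso_εMix₃_of_isKProjective [HasLTenMix₃ φ ψ] (P : DRing.Cx A) (P' : DRing.Cx B)
    (P'' : DRing.Cx C) [P.IsKProjective] [P'.IsKProjective] [P''.IsKProjective] :
    IsIso ((εMix₃ φ ψ).app (P, (P', P''))) :=
  PtKan.isIso_counit_app (QMix₃ A B C) (mix₃ φ ψ) (qisMix₃ A B C) (enoughMix₃ φ ψ)
    (LTenMix₃ φ ψ) (εMix₃ φ ψ) (goodMix₃ φ ψ P P' P'')

theorem isIso_LTenMix_map [HasLTenMix φ] {X Y : Dual.D A × Dual.D B} (f : X ⟶ Y)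
    (h1 : IsIso f.1) (h2 : IsIso f.2) : IsIso ((LTenMix φ).map f) := by
  have : IsIso f := by
    rw [isIso_prod_iff]
    exact ⟨h1, h2⟩
  infer_instance

theorem isIso_leg₃L_res [HasLTenMix φ] [HasLTenMix ψ] [HasLTenMix₃ φ ψ] (X : DRing.Cx A)
    (Y : DRing.Cx B) (Z : DRing.Cx C) :
    IsIso ((leg₃L φ ψ).app ((QMix₃ A B C).obj (res X, (res Y, res Z)))) := by
  have hfac := leg₃L_fac φ ψ (res X, (res Y, res Z))
  have i1 : IsIso ((εMix₃ φ ψ).app (res X, (res Y, res Z))) :=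
    isIso_εMix₃_of_isKProjective φ ψ _ _ _
  have i2 : IsIso ((β₃L φ ψ).app (res X, (res Y, res Z))) := by
    dsimp [β₃L]
    have j1 : IsIso ((εMix φ).app (res X, res Y)) := isIso_εMix_of_isKProjective φ _ _
    have j2 := isIso_LTenMix_map ψ (Prod.mkHom ((εMix φ).app (res X, res Y))
      (𝟙 (DerivedCategory.Q.obj (res Z)))) (by dsimp; exact j1) (by dsimp; infer_instance)
    haveI : ((extCx φ).obj (res X) ⊗ res Y).IsKProjective :=
      isKProjective_tensor ((extCx φ).obj (res X)) (res Y)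
    have j3 : IsIso ((εMix ψ).app ((extCx φ).obj (res X) ⊗ res Y, res Z)) :=
      isIso_εMix_of_isKProjective ψ _ _
    exact IsIso.comp_isIso' j2 j3
  rw [← hfac] at i2
  exact IsIso.of_isIso_comp_right _ ((εMix₃ φ ψ).app (res X, (res Y, res Z)))

theorem isIso_leg₃R_res [HasLTenMix ψ] [HasLTenMix (ψ.comp φ)] [HasLTenMix₃ φ ψ]
    (X : DRing.Cx A) (Y : DRing.Cx B) (Z : DRing.Cx C) :
    IsIso ((leg₃R φ ψ).app ((QMix₃ A B C).obj (res X, (res Y, res Z)))) := by
  have hfac := leg₃R_fac φ ψ (res X, (res Y, res Z))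
  have i1 : IsIso ((εMix₃ φ ψ).app (res X, (res Y, res Z))) :=
    isIso_εMix₃_of_isKProjective φ ψ _ _ _
  have i2 : IsIso ((β₃R φ ψ).app (res X, (res Y, res Z))) := by
    dsimp [β₃R]
    have j1 : IsIso ((εMix ψ).app (res Y, res Z)) := isIso_εMix_of_isKProjective ψ _ _
    have j2 := isIso_LTenMix_map (ψ.comp φ) (Prod.mkHom (𝟙 (DerivedCategory.Q.obj (res X)))
      ((εMix ψ).app (res Y, res Z))) (by dsimp; infer_instance) (by dsimp; exact j1)
    haveI : ((extCx ψ).obj (res Y) ⊗ res Z).IsKProjective :=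
      isKProjective_tensor ((extCx ψ).obj (res Y)) (res Z)
    have j3 : IsIso ((εMix (ψ.comp φ)).app (res X, (extCx ψ).obj (res Y) ⊗ res Z)) :=
      isIso_εMix_of_isKProjective (ψ.comp φ) _ _
    have j4 : IsIso (DerivedCategory.Q.map ((θ₃ φ ψ).inv.app (res X, (res Y, res Z)))) :=
      inferInstance
    exact IsIso.comp_isIso' j2 (IsIso.comp_isIso' j3 j4)
  rw [← hfac] at i2
  exact IsIso.of_isIso_comp_right _ ((εMix₃ φ ψ).app (res X, (res Y, res Z)))

/-- every mixed triple of objects is isomorphic to the image of a triple of resolutions -/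
noncomputable def tripleIsoMix (a : Dual.D A) (b : Dual.D B) (c : Dual.D C) :
    (a, (b, c)) ≅ (QMix₃ A B C).obj (res (DerivedCategory.Q.objPreimage a),
      (res (DerivedCategory.Q.objPreimage b), res (DerivedCategory.Q.objPreimage c))) :=
  Iso.prod ((DerivedCategory.Q.objObjPreimageIso a).symm ≪≫
      (asIso (DerivedCategory.Q.map (resMap (DerivedCategory.Q.objPreimage a)))).symm)
    (Iso.prod ((DerivedCategory.Q.objObjPreimageIso b).symm ≪≫
        (asIso (DerivedCategory.Q.map (resMap (DerivedCategory.Q.objPreimage b)))).symm)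
      ((DerivedCategory.Q.objObjPreimageIso c).symm ≪≫
        (asIso (DerivedCategory.Q.map (resMap (DerivedCategory.Q.objPreimage c)))).symm))

theorem isIso_leg₃_app [HasLTenMix φ] [HasLTenMix ψ] [HasLTenMix (ψ.comp φ)]
    [HasLTenMix₃ φ ψ] (E : Dual.D A) (F : Dual.D B) (G : Dual.D C) :
    IsIso ((leg₃L φ ψ).app (E, (F, G))) ∧ IsIso ((leg₃R φ ψ).app (E, (F, G))) := by
  constructor
  · rw [NatTrans.isIso_app_iff_of_iso (leg₃L φ ψ) (tripleIsoMix E F G)]
    exact isIso_leg₃L_res φ ψ _ _ _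
  · rw [NatTrans.isIso_app_iff_of_iso (leg₃R φ ψ) (tripleIsoMix E F G)]
    exact isIso_leg₃R_res φ ψ _ _ _

end Groth.Agent.Lib.Helper5.DTenLib
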